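import Cfsg.Agent.Lib.Perm.UniquePDegree.Modular

/-!
# No module of dimension `p + 1` with a small trace
-/

set_option autoImplicit false
set_option linter.unusedSectionVars false
set_option linter.style.haveILetI false

namespace Cfsg.Lib.UniquePDegree

open Module

variable {G : Type*} [Group G] [Finite G] {p : ℕ} [hp : Fact p.Prime]
variable {k : Type*} [Field k] [CharP k p] [IsAlgClosed k]

/-- The local data: `N = ⟨u⟩⟨y⟩` is the normalizer of `⟨u⟩`, `y` of odd order `e`, inverted by `w`. -/
structure LocalData (p : ℕ) (G : Type*) [Group G] where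
  /-- The element of order `p`. -/
  u : G
  /-- The generator of the complement. -/
  y : G
  /-- The inverting element. -/
  w : G
  /-- The exponent of the action. -/
  s : ℕ
  /-- The order of the complement. -/
  e : ℕ
  /-- The normalizer. -/
  N : Subgroup G
  hu : u ^ p = 1
  hy : y ^ e = 1
  hodd : Odd e
  he3 : 3 ≤ e
  hp5 : 5 ≤ p
  hdvd : e ∣ (p - 1) / 2
  hrel : y * u = u ^ s * y
  hse : s ^ e ≡ 1 [MOD p]
  hsord : ∀ l, 0 < l → l < e → ¬ s ^ l ≡ 1 [MOD p]
  hw : w * y * w⁻¹ = y⁻¹
  huN : u ∈ N
  hN : ∀ g ∈ N, ∃ a b : ℕ, g = u ^ a * y ^ b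
  hfix : ∀ g, g⁻¹ * u * g ∈ N → g ∈ N

variable (L : LocalData p G)

theorem LocalData.primitive : IsPrimitiveRoot (L.s : k) L.e := by
  have hcast : ∀ l : ℕ, (L.s : k) ^ l = 1 ↔ L.s ^ l ≡ 1 [MOD p] := fun l => by
    rw [← Nat.cast_pow, ← Nat.cast_one (R := k), CharP.natCast_eq_natCast k p]
  refine IsPrimitiveRoot.mk_of_lt _ (by have := L.he3; omega) ((hcast _).2 L.hse) fun l hl hle h => ?_
  exact L.hsord l hl hle ((hcast l).1 h)

theorem LocalData.e_ne_zero : (L.e : k) ≠ 0 := by
  rw [Ne, CharP.cast_eq_zero_iff k p]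
  intro h
  have := L.he3
  have := L.hp5
  have h1 := Nat.le_of_dvd (by omega) h
  have h2 := Nat.le_of_dvd (by omega) L.hdvd
  omega

theorem LocalData.sum_pow {j : ℕ} (hj : L.e ∣ j) :
    ∑ i ∈ Finset.range j, (L.s : k) ^ i = 0 := by
  have hprim := L.primitive (k := k)
  have hne : (L.s : k) ≠ 1 := by
    simpa using hprim.pow_ne_one_of_pos_of_lt one_ne_zero (by have := L.he3; omega)
  rw [geom_sum_eq hne, (hprim.pow_eq_one_iff_dvd j).2 hj, sub_self, zero_div]

/-- The eigenvalue of a single block of half size is one. -/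
theorem LocalData.trace_half {M : Type*} [AddCommGroup M] [Module k M] [FiniteDimensional k M]
    (σ : G →* Module.End k M) (hfin : finrank k M = (p - 1) / 2 + 1)
    (hblock : (σ L.u - 1) ^ ((p - 1) / 2) ≠ 0) : LinearMap.trace k M (σ L.y) = 1 := by
  have hU : σ L.u ^ p = 1 := by rw [← map_pow, L.hu, map_one]
  have hnil : IsNilpotent (σ L.u - 1) := by
    haveI : Nontrivial (Module.End k M) := nontrivial_of_ne _ _ hblock
    haveI : CharP (Module.End k M) p :=
      charP_of_injective_algebraMap (algebraMap k (Module.End k M)).injective p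
    exact ⟨p, by rw [sub_pow_char_of_commute p (Commute.one_right _), hU, one_pow, sub_self]⟩
  have hrel : σ L.y * σ L.u = σ L.u ^ L.s * σ L.y := by rw [← map_mul, ← map_pow, ← map_mul, L.hrel]
  have hy : σ L.y ^ L.e = 1 := by rw [← map_pow, L.hy, map_one]
  obtain ⟨ν, hνe, htr, htr'⟩ := trace_eq_of_cyclic (σ L.u) (σ L.y) (L.primitive (k := k)) L.e_ne_zero hy
    hrel hnil (Nat.succ_pos _) hfin (by simpa using hblock)
  have hsum : ∀ t : ℕ, (t : k) = (L.s : k) ^ (L.e - 1) →
      ∑ i ∈ Finset.range ((p - 1) / 2 + 1), (t : k) ^ i = 1 := by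
    intro t ht
    rw [Finset.sum_range_succ', pow_zero, add_eq_right, ht]
    simp only [pow_succ, ← Finset.sum_mul]
    refine mul_eq_zero_of_left ?_ _
    have h1 : ((L.s : k) ^ (L.e - 1)) ≠ 1 :=
      (L.primitive (k := k)).pow_ne_one_of_pos_of_lt (by have := L.he3; omega) (by have := L.he3; omega)
    rw [geom_sum_eq h1, ← pow_mul, ((L.primitive (k := k)).pow_eq_one_iff_dvd _).2
      (dvd_mul_of_dvd_right L.hdvd _), sub_self, zero_div]
  have hone : ∑ i ∈ Finset.range ((p - 1) / 2 + 1), (L.s : k) ^ i = 1 := by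
    rw [Finset.sum_range_succ, L.sum_pow L.hdvd, zero_add,
      ((L.primitive (k := k)).pow_eq_one_iff_dvd _).2 L.hdvd]
  rw [hone, mul_one] at htr
  -- the inverse
  have hinv : σ L.y⁻¹ * σ L.y = 1 := by rw [← map_mul, inv_mul_cancel, map_one]
  have hrel' : σ L.y⁻¹ * σ L.u = σ L.u ^ (L.s ^ (L.e - 1)) * σ L.y⁻¹ := by
    have hyinv : L.y⁻¹ = L.y ^ (L.e - 1) := by
      rw [inv_eq_iff_mul_eq_one, ← pow_succ', Nat.sub_add_cancel (by have := L.he3; omega), L.hy]
    have h : ∀ i : ℕ, L.y ^ i * L.u = L.u ^ (L.s ^ i) * L.y ^ i := by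
      have h1 : ∀ a : ℕ, L.y * L.u ^ a = L.u ^ (L.s * a) * L.y := by
        intro a
        induction a with
        | zero => simp
        | succ n ih => rw [pow_succ, ← mul_assoc, ih, mul_assoc, L.hrel, ← mul_assoc, ← pow_add, Nat.mul_succ]
      intro i
      induction i with
      | zero => simp
      | succ n ih => rw [pow_succ', mul_assoc, ih, ← mul_assoc, h1, mul_assoc, pow_succ' L.s]
    rw [← map_mul, ← map_pow, ← map_mul, hyinv, h]
  have htr2 := htr' _ _ hinv hrel'
  rw [hsum _ (by rw [Nat.cast_pow]), mul_one] at htr2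
  have hsame : LinearMap.trace k M (σ L.y⁻¹) = LinearMap.trace k M (σ L.y) := by
    rw [← L.hw, map_mul σ, map_mul σ, LinearMap.trace_mul_comm, ← mul_assoc, ← map_mul σ, inv_mul_cancel,
      map_one σ, one_mul]
  rw [htr2, htr] at hsame
  have hν2 : ν ^ 2 = 1 := by
    rcases eq_or_ne ν 0 with h0 | h0
    · rw [h0, zero_pow (by have := L.he3; omega)] at hνe; exact absurd hνe zero_ne_one
    · rw [sq]; nth_rw 1 [← hsame]; exact inv_mul_cancel₀ h0
  obtain ⟨j, hj⟩ := L.hodd
  rw [hj, pow_succ, pow_mul, hν2, one_pow, one_mul] at hνe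
  rw [htr, hνe]

/-- The contradiction. -/
theorem LocalData.false_of_module {M : Type*} [AddCommGroup M] [Module k M] [FiniteDimensional k M]
    (σ : G →* Module.End k M) (hfin : finrank k M = p + 1) (H : Subgroup G) [Fintype H]
    (hH : (Fintype.card H : k) ≠ 0) (havg : ∑ h : H, σ (h : G) = 0)
    (μ : k) (hμ : μ ^ L.e = 1) (hμ1 : μ ≠ 1) (htr : LinearMap.trace k M (σ L.y) = μ + μ⁻¹)
    (B : M →ₗ[k] M →ₗ[k] k) (hB0 : B ≠ 0) (hB : ∀ g v v', B (σ g v) (σ g v') = B v v')
    (hsub : ∀ (W : Submodule k M) (hW : ∀ g, W ≤ W.comap (σ g)),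
      (W ≠ ⊥ → ∀ (ψ : G →* Module.End k W), (∀ g, ψ g = (σ g).restrict (hW g)) → ψ ≠ 1 →
        (ψ L.u - 1) ^ ((p - 1) / 2) ≠ 0) ∧
      (W ≠ ⊤ → ∀ (ψ : G →* Module.End k (M ⧸ W)), (∀ g, ψ g = W.mapQ W (σ g) (hW g)) → ψ ≠ 1 →
        (ψ L.u - 1) ^ ((p - 1) / 2) ≠ 0)) : False := by
  classical
  have hp2 := hp.out.two_le
  have hp7 : 2 * 3 + 1 ≤ p := by
    have := L.hp5
    have := L.he3
    have := Nat.le_of_dvd (by omega) L.hdvd
    omega
  have hodd : p % 2 = 1 := Nat.odd_iff.1 (hp.out.odd_of_ne_two (by omega))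
  set r := (p - 1) / 2 + 1 with hr
  have hr2 : r + r = p + 1 := by omega
  set U := σ L.u with hU
  set D := U - 1 with hD
  haveI : Nontrivial M := Module.nontrivial_of_finrank_pos (R := k) (by omega)
  haveI : CharP (Module.End k M) p :=
    charP_of_injective_algebraMap (algebraMap k (Module.End k M)).injective p
  have hUp : U ^ p = 1 := by rw [hU, ← map_pow, L.hu, map_one]
  have hDp : D ^ p = 0 := by
    rw [hD, sub_pow_char_of_commute p (Commute.one_right _), hUp, one_pow, sub_self]
  -- nontrivial action on subquotients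
  have hsubW : ∀ (W : Submodule k M) (hW : ∀ g, W ≤ W.comap (σ g)),
      (W ≠ ⊥ → ∃ ψ : G →* Module.End k W, (∀ g, ψ g = (σ g).restrict (hW g)) ∧
        (ψ L.u - 1) ^ ((p - 1) / 2) ≠ 0) ∧
      (W ≠ ⊤ → ∃ ψ : G →* Module.End k (M ⧸ W), (∀ g, ψ g = W.mapQ W (σ g) (hW g)) ∧
        (ψ L.u - 1) ^ ((p - 1) / 2) ≠ 0) := by
    intro W hW
    constructor
    · intro hWb
      let ψ : G →* Module.End k W :=
        { toFun := fun g => (σ g).restrict (hW g)
          map_one' := LinearMap.ext fun v => Subtype.ext (by
            show σ 1 (v : M) = v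
            rw [map_one]; rfl)
          map_mul' := fun g h => LinearMap.ext fun v => Subtype.ext (by
            show σ (g * h) (v : M) = σ g (σ h (v : M))
            rw [map_mul]; rfl) }
      refine ⟨ψ, fun g => rfl, (hsub W hW).1 hWb ψ (fun g => rfl) fun h1 => ?_⟩
      obtain ⟨x, hx, hx0⟩ := (Submodule.ne_bot_iff W).1 hWb
      refine hx0 ?_
      have h2 : ∀ h : H, σ (h : G) x = x := fun h =>
        congrArg (fun f : Module.End k W => ((f ⟨x, hx⟩ : W) : M)) (DFunLike.congr_fun h1 (h : G))
      have h3 := LinearMap.congr_fun havg x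
      rw [LinearMap.sum_apply, Finset.sum_congr rfl fun h _ => h2 h, Finset.sum_const, Finset.card_univ,
        ← Nat.cast_smul_eq_nsmul k, LinearMap.zero_apply, smul_eq_zero] at h3
      exact h3.resolve_left hH
    · intro hWt
      let ψ : G →* Module.End k (M ⧸ W) :=
        { toFun := fun g => W.mapQ W (σ g) (hW g)
          map_one' := Submodule.linearMap_qext _ (LinearMap.ext fun v => by
            show Submodule.Quotient.mk (σ 1 v) = Submodule.Quotient.mk v
            rw [map_one]; rfl)
          map_mul' := fun g h => Submodule.linearMap_qext _ (LinearMap.ext fun v => by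
            show Submodule.Quotient.mk (σ (g * h) v) = Submodule.Quotient.mk (σ g (σ h v))
            rw [map_mul]; rfl) }
      refine ⟨ψ, fun g => rfl, (hsub W hW).2 hWt ψ (fun g => rfl) fun h1 => ?_⟩
      obtain ⟨x, hx⟩ : ∃ x, x ∉ W := by
        by_contra h
        push Not at h
        exact hWt (eq_top_iff.2 fun x _ => h x)
      refine hx ?_
      have h2 : ∀ h : H, (Submodule.Quotient.mk (σ (h : G) x) : M ⧸ W) = Submodule.Quotient.mk x := fun h =>
        congrArg (fun f : Module.End k (M ⧸ W) => f (Submodule.Quotient.mk x)) (DFunLike.congr_fun h1 (h : G))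
      have h3 := congrArg W.mkQ (LinearMap.congr_fun havg x)
      rw [LinearMap.sum_apply, map_sum, Finset.sum_congr rfl fun h _ => (Submodule.mkQ_apply W _).trans (h2 h),
        Finset.sum_const, Finset.card_univ, ← Nat.cast_smul_eq_nsmul k, LinearMap.zero_apply, map_zero,
        smul_eq_zero] at h3
      exact (Submodule.Quotient.mk_eq_zero W).1 (h3.resolve_left hH)
  have hblockle : ∀ {W : Type _} [AddCommGroup W] [Module k W] [FiniteDimensional k W]
      (ψ : G →* Module.End k W), (ψ L.u - 1) ^ ((p - 1) / 2) ≠ 0 → r ≤ finrank k W := by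
    intro W _ _ _ ψ hψ
    by_contra hlt
    refine hψ ?_
    haveI : Nontrivial (Module.End k W) := nontrivial_of_ne _ _ hψ
    haveI : CharP (Module.End k W) p :=
      charP_of_injective_algebraMap (algebraMap k (Module.End k W)).injective p
    have hn : IsNilpotent (ψ L.u - 1) := ⟨p, by
      rw [sub_pow_char_of_commute p (Commute.one_right _), ← map_pow, L.hu, map_one, one_pow, sub_self]⟩
    have h1 := IsNilpotent.charpoly_eq_X_pow_finrank (φ := ψ L.u - 1) hn
    have h2 := LinearMap.aeval_self_charpoly (ψ L.u - 1)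
    rw [h1, map_pow, Polynomial.aeval_X] at h2
    exact pow_eq_zero_of_le (by omega) h2
  by_cases hirr : ∀ W : Submodule k M, (∀ g, ∀ w ∈ W, σ g w ∈ W) → W = ⊥ ∨ W = ⊤
  swap
  · push Not at hirr
    obtain ⟨W, hW, hWb, hWt⟩ := hirr
    obtain ⟨h1, h2⟩ := hsubW W fun g v hv => hW g v hv
    obtain ⟨ψ, hψe, hψb⟩ := h1 hWb
    obtain ⟨χ, hχe, hχb⟩ := h2 hWt
    have d1 := hblockle ψ hψb
    have d2 := hblockle χ hχb
    have d3 := W.finrank_quotient_add_finrank
    have t1 := L.trace_half ψ (by omega) hψb
    have t2 := L.trace_half χ (by omega) hχb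
    have h := trace_eq_trace_add_trace W (σ L.y) (fun v hv => hW _ v hv)
    rw [← hψe, ← hχe, t1, t2, htr] at h
    refine hμ1 ?_
    have hμ0 : μ ≠ 0 := by
      intro h0
      rw [h0, zero_pow (by have := L.he3; omega)] at hμ
      exact zero_ne_one hμ
    have h4 : (μ - 1) * (μ - 1) = 0 := by
      have h5 : μ * μ + 1 = (1 + 1) * μ := by rw [← h]; field_simp
      linear_combination h5
    exact sub_eq_zero.1 (mul_self_eq_zero.1 h4)
  -- irreducible
  have hnofix : ∀ v : M, (∀ g, σ g v = v) → v = 0 := by
    intro v hv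
    by_contra hv0
    have hspan : ∀ g, ∀ x ∈ Submodule.span k {v}, σ g x ∈ Submodule.span k {v} := by
      intro g x hx
      obtain ⟨c, rfl⟩ := Submodule.mem_span_singleton.1 hx
      rw [map_smul, hv]
      exact Submodule.smul_mem _ _ (Submodule.mem_span_singleton_self v)
    rcases hirr _ hspan with h | h
    · exact hv0 (Submodule.span_singleton_eq_bot.1 h)
    · have := finrank_span_singleton (K := k) hv0
      rw [h, finrank_top, hfin] at this
      omega
  have hrel : σ L.y * U = U ^ L.s * σ L.y := by rw [hU, ← map_mul, ← map_pow, ← map_mul, L.hrel]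
  have hy : σ L.y ^ L.e = 1 := by rw [← map_pow, L.hy, map_one]
  by_cases htop : D ^ (p - 1) = 0
  · -- one block of size at most `p - 1`
    obtain ⟨m, hm, hmin⟩ : ∃ m, D ^ m = 0 ∧ D ^ (m - 1) ≠ 0 := by
      have hex : ∃ m, D ^ m = 0 := ⟨_, htop⟩
      refine ⟨Nat.find hex, Nat.find_spec hex, ?_⟩
      rcases Nat.eq_zero_or_pos (Nat.find hex) with h | h
      · have := Nat.find_spec hex
        rw [h, pow_zero] at this
        exact absurd this one_ne_zero
      · exact Nat.find_min hex (by omega)
    have hle : m ≤ p - 1 := by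
      by_contra h
      exact hmin (pow_eq_zero_of_le (by omega) htop)
    have := finrank_le_of_scalar U (σ L.y) (L.primitive (k := k)) L.e_ne_zero hy hUp hrel L.hse hm hmin
      fun f hfU hfy => scalar_on_fixed σ L.N L.huN L.hu L.hfix htop hirr f fun g hg => by
        obtain ⟨a, b, rfl⟩ := L.hN g hg
        rw [map_mul, map_pow, map_pow]
        exact ((hfU.symm.pow_left a).mul_left (hfy.symm.pow_left b))
    omega
  -- a free block and a fixed point
  obtain ⟨x0, hx0⟩ : ∃ x, (D ^ (p - 1)) x ≠ 0 := by
    by_contra h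
    push Not at h
    exact htop (LinearMap.ext h)
  -- the dimensions of the images
  have hchain : ∀ i, i ≤ p - 1 → i + 1 ≤ finrank k (LinearMap.range (D ^ (p - 1 - i))) := by
    intro i
    induction i with
    | zero =>
      intro _
      rw [Nat.sub_zero, zero_add, Nat.one_le_iff_ne_zero, Ne, Submodule.finrank_eq_zero, LinearMap.range_eq_bot]
      exact htop
    | succ n ih =>
      intro hn
      have h1 := ih (by omega)
      set j := p - 1 - (n + 1) with hj
      rw [show p - 1 - n = j + 1 by omega] at h1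
      have hlt : LinearMap.range (D ^ (j + 1)) < LinearMap.range (D ^ j) := by
        refine lt_of_le_of_ne ?_ fun heq => ?_
        · rw [pow_succ, Module.End.mul_eq_comp]; exact LinearMap.range_comp_le_range _ _
        · have hst : ∀ c, LinearMap.range (D ^ (j + 1 + c)) = LinearMap.range (D ^ (j + 1)) := by
            intro c
            induction c with
            | zero => rfl
            | succ c ihc =>
              rw [← add_assoc, pow_succ', Module.End.mul_eq_comp, LinearMap.range_comp, ihc, heq,
                ← LinearMap.range_comp, ← Module.End.mul_eq_comp, ← pow_succ', heq]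
          have h2 := hst p
          rw [pow_eq_zero_of_le (by omega) hDp, LinearMap.range_zero] at h2
          rw [← h2, finrank_bot] at h1
          omega
      have := Submodule.finrank_lt_finrank_of_lt hlt
      omega
  have hker2 : 2 ≤ finrank k (LinearMap.ker D) := by
    by_contra h
    have hrec : ∀ n : ℕ, finrank k M ≤ finrank k (LinearMap.range (D ^ n)) + n := by
      intro n
      induction n with
      | zero => rw [pow_zero, Module.End.one_eq_id, LinearMap.range_id, finrank_top, add_zero]
      | succ n ih =>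
        set g := D.domRestrict (LinearMap.range (D ^ n)) with hg
        have h1 := LinearMap.finrank_range_add_finrank_ker g
        have h2 : LinearMap.range g = LinearMap.range (D ^ (n + 1)) := by
          rw [hg, LinearMap.range_domRestrict, pow_succ', Module.End.mul_eq_comp, LinearMap.range_comp]
        have h3 : finrank k (LinearMap.ker g) ≤ finrank k (LinearMap.ker D) := by
          refine LinearMap.finrank_le_finrank_of_injective
            (f := (Submodule.subtype _).restrict fun w hw => ?_) ?_
          · exact hw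
          · intro a b h
            exact Subtype.ext (Subtype.ext (congrArg Subtype.val h :))
        rw [h2] at h1
        omega
    have := hrec p
    rw [hDp, LinearMap.range_zero, finrank_bot] at this
    omega
  have hkerD : finrank k (LinearMap.ker D) = 2 := by
    have h1 := LinearMap.finrank_range_add_finrank_ker D
    have h2 := hchain (p - 2) (by omega)
    rw [show p - 1 - (p - 2) = 1 by omega, pow_one] at h2
    omega
  have hinf : finrank k (LinearMap.ker D ⊓ LinearMap.range D : Submodule k M) = 1 := by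
    refine le_antisymm ?_ ?_
    · set g := D.domRestrict (LinearMap.range D) with hg
      have h1 := LinearMap.finrank_range_add_finrank_ker g
      have h2 : LinearMap.range g = LinearMap.range (D ^ 2) := by
        rw [hg, LinearMap.range_domRestrict, pow_two, Module.End.mul_eq_comp, LinearMap.range_comp]
      have h3 := hchain (p - 3) (by omega)
      rw [show p - 1 - (p - 3) = 2 by omega, ← h2] at h3
      have h4 := LinearMap.finrank_range_add_finrank_ker D
      have h5 : finrank k (LinearMap.ker D ⊓ LinearMap.range D : Submodule k M) ≤ finrank k (LinearMap.ker g) := by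
        refine LinearMap.finrank_le_finrank_of_injective
          (f := ((LinearMap.ker D ⊓ LinearMap.range D).subtype.codRestrict (LinearMap.range D)
            fun c => (Submodule.mem_inf.1 c.2).2).codRestrict (LinearMap.ker g) fun c => ?_) ?_
        · exact LinearMap.mem_ker.2 (LinearMap.mem_ker.1 (Submodule.mem_inf.1 c.2).1)
        · intro a b h'
          exact Subtype.ext (congrArg (fun z : LinearMap.ker g => ((z : LinearMap.range D) : M)) h')
      omega
    · rw [Nat.one_le_iff_ne_zero, Ne, Submodule.finrank_eq_zero]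
      intro hbot
      refine hx0 ((Submodule.mem_bot k).1 (hbot ▸ ⟨?_, ?_⟩))
      · show D ((D ^ (p - 1)) x0) = 0
        rw [← Module.End.mul_apply, ← pow_succ', show p - 1 + 1 = p by omega, hDp]
        rfl
      · exact ⟨(D ^ (p - 2)) x0, by rw [← Module.End.mul_apply, ← pow_succ', show p - 2 + 1 = p - 1 by omega]⟩
  -- the form is nondegenerate
  have hrad : ∀ v, (∀ x, B x v = 0) → v = 0 := by
    intro v hv
    let R : Submodule k M := LinearMap.ker B.flip
    have hR : ∀ g, ∀ x ∈ R, σ g x ∈ R := by
      intro g x hx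
      rw [LinearMap.mem_ker] at hx ⊢
      refine LinearMap.ext fun z => ?_
      show B z (σ g x) = 0
      have h1 := hB g (σ g⁻¹ z) x
      rw [← Module.End.mul_apply, ← map_mul, mul_inv_cancel, map_one, Module.End.one_apply] at h1
      rw [h1]
      exact LinearMap.congr_fun hx (σ g⁻¹ z)
    rcases hirr R hR with h | h
    · exact (Submodule.mem_bot k).1 (h ▸ (LinearMap.mem_ker.2 (LinearMap.ext hv) : v ∈ R))
    · refine absurd ?_ hB0
      refine LinearMap.ext fun z => LinearMap.ext fun x => ?_
      have hx : x ∈ R := h ▸ Submodule.mem_top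
      exact LinearMap.congr_fun (LinearMap.mem_ker.1 hx) z
  have hBinj : Function.Injective B.flip := (injective_iff_map_eq_zero B.flip).2 fun v hv =>
    hrad v fun x => LinearMap.congr_fun hv x
  -- vectors pairing to zero with the fixed space lie in the image
  have hperp : ∀ v, (∀ x, D x = 0 → B x v = 0) → v ∈ LinearMap.range D := by
    set Φ : M →ₗ[k] (LinearMap.ker D →ₗ[k] k) :=
      (LinearMap.lcomp k k (LinearMap.ker D).subtype).comp B.flip with hΦ
    have hle : LinearMap.range D ≤ LinearMap.ker Φ := by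
      rintro _ ⟨z, rfl⟩
      refine LinearMap.ext fun x => ?_
      show B (x : M) (D z) = 0
      have hx : U (x : M) = x := sub_eq_zero.1 (LinearMap.mem_ker.1 x.2)
      have h1 := hB L.u (x : M) z
      rw [← hU, hx] at h1
      show B (x : M) (U z - z) = 0
      rw [map_sub, h1, sub_self]
    have hsurj : LinearMap.range Φ = ⊤ := by
      have hb : LinearMap.range B.flip = ⊤ :=
        LinearMap.range_eq_top.2 ((LinearMap.injective_iff_surjective_of_finrank_eq_finrank
          (by rw [Subspace.dual_finrank_eq])).1 hBinj)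
      rw [hΦ, LinearMap.range_comp, hb, Submodule.map_top, LinearMap.range_eq_top]
      intro φ
      obtain ⟨ψ, hψ⟩ := LinearMap.exists_extend φ
      exact ⟨ψ, hψ⟩
    have heq : LinearMap.range D = LinearMap.ker Φ := by
      refine Submodule.eq_of_le_of_finrank_le hle ?_
      have h1 := LinearMap.finrank_range_add_finrank_ker Φ
      have h2 := LinearMap.finrank_range_add_finrank_ker D
      rw [hsurj, finrank_top] at h1
      have h3 : finrank k (LinearMap.ker D →ₗ[k] k) = finrank k (LinearMap.ker D) := Subspace.dual_finrank_eq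
      omega
    intro v hv
    rw [heq]
    exact LinearMap.ext fun x => hv x (LinearMap.mem_ker.1 x.2)
  -- an eigenvector in the fixed space outside the image
  obtain ⟨x1, hx1, hx1'⟩ : ∃ x ∈ LinearMap.ker D, x ∉ LinearMap.range D := by
    by_contra h
    push Not at h
    have := Submodule.finrank_mono (le_inf le_rfl h : LinearMap.ker D ≤ LinearMap.ker D ⊓ LinearMap.range D)
    omega
  obtain ⟨v, hvK, hvR, ν, hνe, hyv⟩ := exists_eigen (L.s : k) L.primitive L.e_ne_zero hy
    (K := LinearMap.ker D) (K' := LinearMap.range D) (fun z hz => by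
      rw [LinearMap.mem_ker] at hz ⊢
      -- `y` maps the fixed space of `u` to itself
      have hUz : σ L.u z = z := sub_eq_zero.1 hz
      show σ L.u (σ L.y z) - σ L.y z = 0
      have h2 : ∀ a : ℕ, (σ L.u ^ a) z = z := by
        intro a
        induction a with
        | zero => simp
        | succ n ih => rw [pow_succ, Module.End.mul_apply, hUz, ih]
      obtain ⟨a, ha⟩ : ∃ a : ℕ, L.u * L.y = L.y * L.u ^ a := by
        refine ⟨L.s ^ (L.e - 1), ?_⟩
        have h1 : ∀ a : ℕ, L.y * L.u ^ a = L.u ^ (L.s * a) * L.y := by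
          intro a
          induction a with
          | zero => simp
          | succ n ih => rw [pow_succ, ← mul_assoc, ih, mul_assoc, L.hrel, ← mul_assoc, ← pow_add, Nat.mul_succ]
        rw [h1, ← pow_succ', Nat.sub_add_cancel (by have := L.he3; omega),
          pow_eq_pow_mod _ L.hu, show L.s ^ L.e % p = 1 % p from L.hse, ← pow_eq_pow_mod _ L.hu, pow_one]
      rw [← Module.End.mul_apply, ← map_mul, ha, map_mul, Module.End.mul_apply, map_pow, h2, sub_self])
    hx1 hx1'
  -- the eigenvalue is one
  have hBv : B v v ≠ 0 := by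
    intro h0
    refine hvR (hperp v fun x hx => ?_)
    -- the fixed space is spanned by `v` and vectors of the image
    by_contra hxv
    have hDv : D v = 0 := LinearMap.mem_ker.1 hvK
    have hsp : ∀ z ∈ LinearMap.ker D ⊓ LinearMap.range D, B z v = 0 := by
      rintro _ ⟨-, z, rfl⟩
      have hUv : U v = v := sub_eq_zero.1 hDv
      have h1 := hB L.u z v
      rw [← hU, hUv] at h1
      show B (U z - z) v = 0
      rw [map_sub, LinearMap.sub_apply, h1, sub_self]
    have hdim : LinearMap.ker D = Submodule.span k {v} ⊔ (LinearMap.ker D ⊓ LinearMap.range D) := by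
      refine (Submodule.eq_of_le_of_finrank_le (sup_le ((Submodule.span_singleton_le_iff_mem _ _).2 hvK)
        inf_le_left) ?_).symm
      have hlt : LinearMap.ker D ⊓ LinearMap.range D <
          Submodule.span k {v} ⊔ (LinearMap.ker D ⊓ LinearMap.range D) := by
        refine lt_of_le_of_ne le_sup_right fun he => hvR ?_
        have : v ∈ LinearMap.ker D ⊓ LinearMap.range D :=
          he.symm ▸ Submodule.mem_sup_left (Submodule.mem_span_singleton_self v)
        exact this.2
      have h1 := Submodule.finrank_lt_finrank_of_lt hlt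
      omega
    have hxm : x ∈ Submodule.span k {v} ⊔ (LinearMap.ker D ⊓ LinearMap.range D) := hdim ▸ LinearMap.mem_ker.2 hx
    obtain ⟨a, ha, b, hb, rfl⟩ := Submodule.mem_sup.1 hxm
    obtain ⟨c, rfl⟩ := Submodule.mem_span_singleton.1 ha
    refine hxv ?_
    rw [map_add, LinearMap.add_apply, map_smul, LinearMap.smul_apply, h0, hsp b hb, smul_zero, add_zero]
  have hν : ν = 1 := by
    have h1 := hB L.y v v
    rw [hyv, map_smul, map_smul, LinearMap.smul_apply, smul_smul, smul_eq_mul] at h1
    have h2 : ν ^ 2 = 1 := by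
      have := mul_right_cancel₀ hBv (h1.trans (one_mul _).symm)
      rw [sq]; exact this
    obtain ⟨j, hj⟩ := L.hodd
    rwa [hj, pow_succ, pow_mul, h2, one_pow, one_mul] at hνe
  -- so `v` is fixed by the normalizer
  have hvfix : ∀ g ∈ L.N, σ g v = v := by
    intro g hg
    obtain ⟨a, b, rfl⟩ := L.hN g hg
    have hUv : σ L.u v = v := sub_eq_zero.1 (LinearMap.mem_ker.1 hvK)
    have e1 : ∀ a : ℕ, (σ L.u ^ a) v = v := by
      intro a
      induction a with
      | zero => simp
      | succ n ih => rw [pow_succ, Module.End.mul_apply, hUv, ih]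
    have e2 : ∀ b : ℕ, (σ L.y ^ b) v = v := by
      intro b
      induction b with
      | zero => simp
      | succ n ih => rw [pow_succ, Module.End.mul_apply, hyv, hν, one_smul, ih]
    rw [map_mul, map_pow, map_pow, Module.End.mul_apply, e2, e1]
  have hmem := mem_range_of_fixed σ L.N L.huN L.hu L.hfix hnofix hvfix
  refine hvR ?_
  obtain ⟨z, hz⟩ := hmem
  refine ⟨(D ^ (p - 2)) z, ?_⟩
  rw [← Module.End.mul_apply, ← pow_succ', show p - 2 + 1 = p - 1 by omega, hz]

end Cfsg.Lib.UniquePDegree
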