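import Cfsg.Agent.Lib.Perm.UniquePDegree.Setup
import Cfsg.Agent.Lib.GW.Main
import Cfsg.Agent.Lib.GW.DGroupDihedral
import Cfsg.Agent.Lib.ZStar.Main
import Cfsg.Agent.S0112
import Cfsg.Agent.S0115
import Cfsg.Agent.S0806
import Cfsg.Agent.S1213
import Cfsg.Agent.S4399

/-!
# The case of a complement of even order, and the identification

For a complement `E` of even order the involution `z` of `E` has centralizer `N(E)`, and a
conjugate `v ≠ z` commuting with it generates with `z` a four group which is self-centralizing in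
a Sylow 2-subgroup. So the Sylow 2-subgroups are dihedral and Gorenstein–Walter applies.
-/

set_option autoImplicit false
set_option linter.unusedSectionVars false
set_option linter.style.haveILetI false
set_option maxHeartbeats 1000000

namespace Cfsg.Lib.UniquePDegree

open Cfsg

universe u

variable {G : Type u} [Group G] [Finite G] [IsSimpleGroup G] {p : ℕ} [hp : Fact p.Prime]
  (C : Config G p)

theorem Config.mul_mem_of_not_mem {a b : G} (ha : a ∈ Subgroup.normalizer (Subgroup.zpowers C.y : Set G))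
    (hb : b ∈ Subgroup.normalizer (Subgroup.zpowers C.y : Set G)) (ha' : a ∉ Subgroup.zpowers C.y)
    (hb' : b ∉ Subgroup.zpowers C.y) : a * b ∈ Subgroup.zpowers C.y := by
  by_contra hab
  have h1 := (C.hN2 _ (mul_mem ha hb)).resolve_left hab
  have h2 := (C.hN2 b hb).resolve_left hb'
  refine ha' ?_
  have h3 := mul_mem h1 (inv_mem h2)
  rwa [show a * b * C.w * (b * C.w)⁻¹ = a by group] at h3

theorem Config.sq_mem {a : G} (ha : a ∈ Subgroup.normalizer (Subgroup.zpowers C.y : Set G)) :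
    a * a ∈ Subgroup.zpowers C.y := by
  by_cases ha' : a ∈ Subgroup.zpowers C.y
  · exact mul_mem ha' ha'
  · exact C.mul_mem_of_not_mem ha ha ha' ha'

theorem Config.comm_of_mem' {a b : G} (ha : a ∈ Subgroup.zpowers C.y) (hb : b ∈ Subgroup.zpowers C.y) :
    a * b = b * a := by
  obtain ⟨i, rfl⟩ := Subgroup.mem_zpowers_iff.1 ha
  obtain ⟨j, rfl⟩ := Subgroup.mem_zpowers_iff.1 hb
  exact (Commute.zpow_zpow (Commute.refl _) i j).eq

/-- A simple nonabelian group has no subgroup of index two. -/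
theorem no_index_two (hnab : ¬ IsMulCommutative G) (H : Subgroup G) : H.index ≠ 2 := by
  intro h
  haveI : H.Normal := Subgroup.normal_of_index_eq_two h
  rcases IsSimpleGroup.eq_bot_or_eq_top_of_normal H inferInstance with h' | h'
  · rw [h', Subgroup.index_bot] at h
    haveI : Fact (Nat.Prime 2) := ⟨Nat.prime_two⟩
    haveI := isCyclic_of_prime_card (p := 2) h
    exact hnab ⟨⟨fun a b => (IsCyclic.commGroup (α := G)).mul_comm a b⟩⟩
  · rw [h', Subgroup.index_top] at h; omega

/-- The Sylow 2-subgroups are dihedral when the complement has even order. -/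
theorem Config.sylowDihedral (heven : Even (orderOf C.y)) (hnab : ¬ IsMulCommutative G) :
    Cfsg.Lib.GW.SylowDihedral G := by
  classical
  haveI : Fact (Nat.Prime 2) := ⟨Nat.prime_two⟩
  obtain ⟨m, hm⟩ := heven
  have hm0 : 0 < m := by have := C.he2; omega
  set z := C.y ^ m with hz_def
  set E := Subgroup.zpowers C.y with hE
  set N := Subgroup.normalizer (E : Set G) with hN
  have hzE : z ∈ E := Subgroup.pow_mem _ (Subgroup.mem_zpowers _) _
  have hz : orderOf z = 2 := by
    rw [hz_def, orderOf_pow, hm, show m + m = m * 2 by omega, Nat.gcd_mul_right_left,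
      Nat.mul_div_cancel_left _ hm0]
  have hz1 : z ≠ 1 := fun e => by rw [e, orderOf_one] at hz; omega
  -- `z` is the only involution of `E`
  have huniq : ∀ x ∈ E, x * x = 1 → x = 1 ∨ x = z := by
    intro x hx hxx
    obtain ⟨i, rfl : C.y ^ i = x⟩ := mem_powers_iff_mem_zpowers.2 hx
    rw [← pow_add, ← orderOf_dvd_iff_pow_eq_one, hm, ← two_mul, ← two_mul] at hxx
    obtain ⟨j, rfl⟩ := Nat.dvd_of_mul_dvd_mul_left (by norm_num) hxx
    rcases Nat.even_or_odd j with ⟨l, rfl⟩ | ⟨l, rfl⟩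
    · left
      rw [show m * (l + l) = (m + m) * l by ring, pow_mul, ← hm, pow_orderOf_eq_one, one_pow]
    · right
      rw [show m * (2 * l + 1) = (m + m) * l + m by ring, pow_add, pow_mul, ← hm, pow_orderOf_eq_one,
        one_pow, one_mul]
  have hzN : ∀ g ∈ N, g * z = z * g := by
    intro g hg
    have h1 : g * z * g⁻¹ ∈ E := (Subgroup.mem_normalizer_iff.1 hg z).1 hzE
    rcases huniq _ h1 (by rw [← Invol.orderOf_conj_eq g z] at hz; exact Invol.inv_mul_self hz) with h | h
    · exact absurd (conj_eq_one_iff.1 h) hz1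
    · exact mul_inv_eq_iff_eq_mul.1 h
  have hNz : ∀ g : G, g * z = z * g → g ∈ N := by
    intro g hg
    refine C.hTI g z hzE hz1 ?_
    rw [mul_assoc, ← hg, inv_mul_cancel_left]
    exact hzE
  have hO : oddCore G = ⊥ := by
    haveI hn : (oddCore G).Normal := (inferInstance : (Cfsg.pPrimeCore 2 G).Normal)
    refine hn.eq_bot_or_eq_top.resolve_right fun h => ?_
    have h2 : (Nat.card ↥(oddCore G)).Coprime 2 := Core.pPrimeCore_coprime 2 G
    rw [h, Subgroup.card_top] at h2
    exact (Nat.prime_two.coprime_iff_not_dvd.1 h2.symm) (hz ▸ orderOf_dvd_natCard z)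
  have hcenter : z ∉ Subgroup.center G := fun hc => by
    rcases (inferInstance : (Subgroup.center G).Normal).eq_bot_or_eq_top with e | e
    · exact hz1 (by rw [e, Subgroup.mem_bot] at hc; exact hc)
    · exact hnab ⟨⟨fun a b =>
        (Subgroup.mem_center_iff.1 (e ▸ Subgroup.mem_top a : a ∈ Subgroup.center G) b).symm⟩⟩
  -- a second involution
  obtain ⟨g, hgc, hgne⟩ : ∃ g : G, Commute z (g * z * g⁻¹) ∧ g * z * g⁻¹ ≠ z := by
    by_contra h
    push Not at h
    exact hcenter (ZStar.mem_center_of_isolated hO ⟨hz, h⟩)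
  set v := g * z * g⁻¹ with hv_def
  have hv : orderOf v = 2 := by rw [hv_def, Invol.orderOf_conj_eq, hz]
  have hv1 : v ≠ 1 := fun e => by rw [e, orderOf_one] at hv; omega
  have hvv : v * v = 1 := Invol.inv_mul_self hv
  have hzz : z * z = 1 := Invol.inv_mul_self hz
  have hvN : v ∈ N := hNz v hgc.eq.symm
  have hvE : v ∉ E := fun h => (huniq v h hvv).elim hv1 hgne
  have hgN : g ∉ N := fun h => hgne (mul_inv_eq_iff_eq_mul.2 (hzN g h))
  have hfixE : ∀ x ∈ E, x * v = v * x → x = 1 ∨ x = z := by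
    intro x hx hxv
    refine huniq x hx ?_
    by_contra hxx
    have h1 : g⁻¹ * x * g ∈ N := hNz _ (by
      calc g⁻¹ * x * g * z = g⁻¹ * (x * v) * g := by rw [hv_def]; group
        _ = g⁻¹ * (v * x) * g := by rw [hxv]
        _ = z * (g⁻¹ * x * g) := by rw [hv_def]; group)
    have h2 : g⁻¹ * (x * x) * g ∈ E := by
      have := C.sq_mem h1
      rwa [show g⁻¹ * x * g * (g⁻¹ * x * g) = g⁻¹ * (x * x) * g by group] at this
    exact hgN (C.hTI g _ (mul_mem hx hx) hxx h2)
  -- the four group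
  let V : Subgroup G := Subgroup.zpowers z ⊔ Subgroup.zpowers v
  have hzV : z ∈ V := Subgroup.mem_sup_left (Subgroup.mem_zpowers z)
  have hvV : v ∈ V := Subgroup.mem_sup_right (Subgroup.mem_zpowers v)
  have hcomm : ∀ x : G, x * z = z * x → x * v = v * x → x ∈ V := by
    intro x hxz hxv
    by_cases hxE : x ∈ E
    · rcases hfixE x hxE hxv with h | h <;> rw [h]
      · exact one_mem _
      · exact hzV
    · have h1 := C.mul_mem_of_not_mem (hNz x hxz) hvN hxE hvE
      have h2 : x * v * v = v * (x * v) := by rw [mul_assoc x, hvv, mul_one, ← mul_assoc, ← hxv,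
        mul_assoc, hvv, mul_one]
      have h3 : x = x * v * v := by rw [mul_assoc x, hvv, mul_one]
      rcases hfixE _ h1 h2 with h | h
      · rw [h3, h, one_mul]; exact hvV
      · rw [h3, h]; exact mul_mem hzV hvV
  have hzpz : Nat.card ↥(Subgroup.zpowers z) = 2 := by rw [Nat.card_zpowers, hz]
  have hzpv : Nat.card ↥(Subgroup.zpowers v) = 2 := by rw [Nat.card_zpowers, hv]
  have hnz : Subgroup.zpowers v ≤ Subgroup.normalizer (Subgroup.zpowers z : Set G) := by
    refine le_trans ?_ (Subgroup.centralizer_le_normalizer _)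
    rw [Subgroup.zpowers_le, Subgroup.mem_centralizer_iff]
    intro a ha
    obtain ⟨i, rfl⟩ := Subgroup.mem_zpowers_iff.1 ha
    exact (hgc.zpow_left i).eq
  have hinf : Subgroup.zpowers z ⊓ Subgroup.zpowers v = ⊥ := by
    refine eq_bot_iff.2 fun x hx => Subgroup.mem_bot.2 ?_
    obtain ⟨hx1, hx2⟩ := hx
    have hxE : x ∈ E := Subgroup.zpowers_le.2 hzE hx1
    obtain ⟨i, rfl⟩ := Subgroup.mem_zpowers_iff.1 hx2
    rcases Int.even_or_odd i with ⟨l, rfl⟩ | ⟨l, rfl⟩
    · rw [zpow_add, ← (Commute.refl v).mul_zpow, hvv, one_zpow]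
    · rw [zpow_add_one, two_mul, zpow_add, ← (Commute.refl v).mul_zpow, hvv, one_zpow, one_mul] at hxE
      exact absurd hxE hvE
  have hVelem : ∀ x ∈ V, x * x = 1 ∧ x * z = z * x ∧ x * v = v * x := by
    intro x hx
    have hx' : x ∈ Subgroup.zpowers v ⊔ Subgroup.zpowers z := by rw [sup_comm]; exact hx
    obtain ⟨b, hb, a, ha, rfl⟩ := (Core.mem_sup_of_le_normalizer hnz).1 hx'
    have ha' : a * a = 1 ∧ Commute a v ∧ Commute a z := by
      obtain ⟨i, rfl⟩ := Subgroup.mem_zpowers_iff.1 ha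
      exact ⟨by rw [← (Commute.refl z).mul_zpow, hzz, one_zpow], hgc.zpow_left i,
        (Commute.refl z).zpow_left i⟩
    have hb' : b * b = 1 ∧ Commute b v ∧ Commute b z ∧ Commute a b := by
      obtain ⟨i, rfl⟩ := Subgroup.mem_zpowers_iff.1 hb
      exact ⟨by rw [← (Commute.refl v).mul_zpow, hvv, one_zpow], (Commute.refl v).zpow_left i,
        hgc.symm.zpow_left i, ha'.2.1.zpow_right i⟩
    refine ⟨?_, (hb'.2.2.1.mul_left ha'.2.2).eq, (hb'.2.1.mul_left ha'.2.1).eq⟩
    calc b * a * (b * a) = b * (a * b) * a := by group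
      _ = b * (b * a) * a := by rw [hb'.2.2.2.eq]
      _ = (b * b) * (a * a) := by group
      _ = 1 := by rw [hb'.1, ha'.1, one_mul]
  have hVp : IsPGroup 2 ↥V := fun x => ⟨1, Subtype.ext (by
    show (x : G) ^ 2 ^ 1 = 1
    rw [pow_one, pow_two]; exact (hVelem x x.2).1)⟩
  have hVcard : Nat.card ↥V = 2 ^ 2 := by
    let f : ↥(Subgroup.zpowers z) × ↥(Subgroup.zpowers v) → ↥V := fun a =>
      ⟨(a.2 : G) * a.1, mul_mem (Subgroup.mem_sup_right a.2.2) (Subgroup.mem_sup_left a.1.2)⟩
    have hf : Function.Bijective f := by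
      constructor
      · rintro ⟨a, b⟩ ⟨a', b'⟩ he
        have he' : (b : G) * a = b' * a' := congrArg Subtype.val he
        have h1 : (b' : G)⁻¹ * b = a' * (a : G)⁻¹ := by
          calc (b' : G)⁻¹ * b = (b' : G)⁻¹ * (b * a) * (a : G)⁻¹ := by group
            _ = (b' : G)⁻¹ * (b' * a') * (a : G)⁻¹ := by rw [he']
            _ = _ := by group
        have h2 : (b' : G)⁻¹ * b ∈ Subgroup.zpowers z ⊓ Subgroup.zpowers v :=
          Subgroup.mem_inf.2 ⟨h1 ▸ mul_mem a'.2 (inv_mem a.2), mul_mem (inv_mem b'.2) b.2⟩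
        rw [hinf, Subgroup.mem_bot] at h2
        obtain rfl : b' = b := Subtype.ext (inv_mul_eq_one.1 h2)
        exact Prod.ext (Subtype.ext (mul_left_cancel he')) rfl
      · rintro ⟨x, hx⟩
        have hx' : x ∈ Subgroup.zpowers v ⊔ Subgroup.zpowers z := by rw [sup_comm]; exact hx
        obtain ⟨b, hb, a, ha, rfl⟩ := (Core.mem_sup_of_le_normalizer hnz).1 hx'
        exact ⟨(⟨a, ha⟩, ⟨b, hb⟩), rfl⟩
    rw [← Nat.card_eq_of_bijective f hf, Nat.card_prod, hzpz, hzpv]
    norm_num
  obtain ⟨S, hVS⟩ := hVp.exists_le_sylow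
  set V' := V.subgroupOf (S : Subgroup G)
  have hV'card : Nat.card ↥V' = 2 ^ 2 := by
    rw [Nat.card_congr (Subgroup.subgroupOfEquivOfLe hVS).toEquiv, hVcard]
  have hV'c : Subgroup.centralizer (V' : Set ↥(S : Subgroup G)) = V' := by
    apply le_antisymm
    · intro s hs
      have h1 : ∀ a ∈ V, (s : G) * a = a * s := fun a ha =>
        (congrArg Subtype.val (Subgroup.mem_centralizer_iff.1 hs ⟨a, hVS ha⟩
          (Subgroup.mem_subgroupOf.2 ha))).symm
      exact Subgroup.mem_subgroupOf.2 (hcomm _ (h1 z hzV) (h1 v hvV))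
    · intro s hs
      refine Subgroup.mem_centralizer_iff.2 fun a ha => Subtype.ext ?_
      have hs' : (s : G) ∈ V := Subgroup.mem_subgroupOf.1 hs
      have ha' : (a : G) ∈ V := Subgroup.mem_subgroupOf.1 ha
      have h1 := (hVelem _ (mul_mem ha' hs')).1
      have h2 := (hVelem _ ha').1
      have h3 := (hVelem _ hs').1
      show (a : G) * s = s * a
      calc (a : G) * s = ((a : G) * s)⁻¹ := (inv_eq_of_mul_eq_one_right h1).symm
        _ = s * a := by rw [mul_inv_rev, inv_eq_of_mul_eq_one_right h2, inv_eq_of_mul_eq_one_right h3]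
  obtain ⟨n, hn⟩ := IsPGroup.iff_card.1 S.2
  have hn2 : 2 ≤ n := by
    have h1 := Subgroup.card_le_of_le hVS
    rw [hVcard, hn] at h1
    exact (Nat.pow_le_pow_iff_right (by norm_num)).1 h1
  rcases eq_or_lt_of_le hn2 with h2 | hn3
  · have hVeq : V = (S : Subgroup G) := Subgroup.eq_of_le_of_card_ge hVS (by rw [hn, ← h2, hVcard])
    haveI : IsKleinFour ↥(S : Subgroup G) := by
      refine ⟨by rw [hn, ← h2]; norm_num, ?_⟩
      haveI : Nontrivial ↥(S : Subgroup G) := Finite.one_lt_card_iff_nontrivial.1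
        (by rw [hn, ← h2]; norm_num)
      refine le_antisymm (Nat.le_of_dvd (by norm_num) (Monoid.exponent_dvd_iff_forall_pow_eq_one.2
        fun x => Subtype.ext ?_)) ?_
      · show (x : G) ^ 2 = 1
        rw [pow_two]; exact (hVelem _ (hVeq.ge x.2)).1
      · have h1 : Monoid.exponent ↥(S : Subgroup G) ≠ 1 := fun e =>
          not_subsingleton ↥(S : Subgroup G) (Monoid.exp_eq_one_iff.1 e)
        have := Monoid.exponent_ne_zero_of_finite (G := ↥(S : Subgroup G))
        omega
    exact GW.sylowDihedral_of_equiv S le_rfl IsKleinFour.nonempty_mulEquiv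
  have hkl := (Cfsg.Agent.S0115.result n hn3 hn).1 (Cfsg.Agent.S0112.result n hn V' hV'card hV'c)
  have hab : Nat.card (Abelianization ↥(S : Subgroup G)) = 4 := hkl.card_four
  have hexp : ∀ x : Abelianization ↥(S : Subgroup G), x ^ 2 = 1 := fun x => by
    have h1 : Monoid.exponent (Abelianization ↥(S : Subgroup G)) = 2 := hkl.exponent_two
    exact Monoid.exponent_dvd_iff_forall_pow_eq_one.1 h1.dvd x
  rcases Cfsg.Agent.S4399.result S.2 hab hexp with h4 | ⟨k, he⟩ | ⟨k, hcard, a, b, ha, hb, hab'⟩ | ⟨k, ⟨e⟩⟩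
  · rw [hn] at h4
    have := Nat.pow_le_pow_right (show 0 < 2 by norm_num) hn3
    norm_num at this
    omega
  · exact GW.sylowDihedral_of_equiv S (Nat.le_self_pow (by omega) 2) he
  · -- semidihedral
    exfalso
    have hqd : Cfsg.IsQuasiDihedral ↥(S : Subgroup G) :=
      ⟨k + 3, by omega, hcard, a, b, ha, hb, by rw [show k + 3 - 1 = k + 2 by omega]; exact hab'⟩
    obtain ⟨-, -, ⟨K, -, -, hKi, hKq⟩, -⟩ :=
      Cfsg.Agent.S1213.result S (Or.inl hqd) (no_index_two hnab) z hz
    have hCzN : ∀ x : ↥(Subgroup.centralizer ({z} : Set G)), (x : G) ∈ N := fun x =>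
      hNz x (Subgroup.mem_centralizer_singleton_iff.1 x.2)
    set E' := E.subgroupOf (Subgroup.centralizer ({z} : Set G))
    have hsq : ∀ x : ↥(Subgroup.centralizer ({z} : Set G)), x * x ∈ E' := fun x => Subgroup.mem_subgroupOf.2 (C.sq_mem (hCzN x))
    have hKE : K ≤ E' := by
      have hE2 : ∀ a b : ↥(Subgroup.centralizer ({z} : Set G)), a ∉ E' → b ∉ E' → a * b ∈ E' := fun a b ha' hb' =>
        Subgroup.mem_subgroupOf.2 (C.mul_mem_of_not_mem (hCzN a) (hCzN b)
          (fun h => ha' (Subgroup.mem_subgroupOf.2 h)) fun h => hb' (Subgroup.mem_subgroupOf.2 h))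
      by_contra hKE
      obtain ⟨c, hcK, hcE⟩ := SetLike.not_le_iff_exists.1 hKE
      refine hKi (E'.subgroupOf K) ?_
      rw [Subgroup.index_eq_two_iff]
      refine ⟨⟨c, hcK⟩, fun d => ?_⟩
      simp only [Subgroup.mem_subgroupOf, Subgroup.coe_mul]
      by_cases hd : (d : ↥(Subgroup.centralizer ({z} : Set G))) ∈ E'
      · exact Or.inr ⟨hd, fun h => hcE (by simpa using E'.mul_mem (E'.inv_mem hd) h)⟩
      · exact Or.inl ⟨hE2 _ _ hd hcE, hd⟩
    obtain ⟨m', hm', ⟨e⟩⟩ := hKq default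
    have hc : ∀ x y : QuaternionGroup (2 ^ m'), x * y = y * x := by
      intro x y
      obtain ⟨x', rfl⟩ := e.surjective x
      obtain ⟨y', rfl⟩ := e.surjective y
      rw [← map_mul, ← map_mul]
      refine congrArg e (Subtype.ext (Subtype.ext (Subtype.ext ?_)))
      exact C.comm_of_mem' (Subgroup.mem_subgroupOf.1 (hKE (x'.1).2))
        (Subgroup.mem_subgroupOf.1 (hKE (y'.1).2))
    have h1 := hc (QuaternionGroup.xa 0) (QuaternionGroup.a 1)
    simp only [QuaternionGroup.xa_mul_a, QuaternionGroup.a_mul_xa, QuaternionGroup.xa.injEq,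
      zero_add, zero_sub] at h1
    have h2 : ((2 : ℕ) : ZMod (2 * 2 ^ m')) = 0 := by
      push_cast
      linear_combination h1
    rw [ZMod.natCast_eq_zero_iff] at h2
    have := Nat.le_of_dvd (by norm_num) h2
    have : 2 ≤ 2 ^ m' := Nat.le_self_pow (by omega) 2
    omega
  · -- quaternion
    exfalso
    haveI : NeZero (2 ^ (k + 1)) := ⟨by positivity⟩
    have h1 : Nat.card {x : ↥(S : Subgroup G) // orderOf x = 2} = 1 := by
      rw [← Invol.card_involutions_quaternion (n := 2 ^ (k + 1))]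
      exact Nat.card_congr (e.toEquiv.subtypeEquiv fun x => by
        rw [MulEquiv.toEquiv_eq_coe, EquivLike.coe_coe, MulEquiv.orderOf_eq])
    obtain ⟨hsub, -⟩ := Nat.card_eq_one_iff_unique.1 h1
    have := hsub.elim ⟨⟨z, hVS hzV⟩, by rw [Subgroup.orderOf_mk]; exact hz⟩
      ⟨⟨v, hVS hvV⟩, by rw [Subgroup.orderOf_mk]; exact hv⟩
    exact hgne (congrArg (fun x : {x : ↥(S : Subgroup G) // orderOf x = 2} => (x.1 : G)) this).symm

end Cfsg.Lib.UniquePDegree
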