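import Cfsg.Agent.Lib.Perm.UniquePDegree.Setup
import Cfsg.Agent.Lib.GW.Basic
import Cfsg.Agent.Lib.GW.DGroupDihedral
import Cfsg.Agent.S0806

/-!
# Which of the groups act on a prime number of points
-/

set_option autoImplicit false
set_option linter.unusedSectionVars false
set_option linter.style.haveILetI false

namespace Cfsg.Lib.UniquePDegree

open Cfsg

universe u

variable {α : Type*} [Fintype α] [DecidableEq α] {p : ℕ} [hp : Fact p.Prime]

/-- A complement of even order forces `p ≡ 1 (mod 4)`. -/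
theorem Config.mod_four (hα : Fintype.card α = p) {G : Subgroup (Equiv.Perm α)} [IsSimpleGroup G]
    (hnab : ¬ IsMulCommutative G) (C : Config G p) (heven : Even (orderOf C.y)) : p % 4 ≠ 3 := by
  classical
  obtain ⟨m, hm⟩ := heven
  have hm0 : 0 < m := by have := C.he2; omega
  have hp5 := C.hp5
  set z := C.y ^ m with hz_def
  have hpow : ∀ l : ℕ, C.y ^ l * C.u * (C.y ^ l)⁻¹ = C.u ^ (C.s ^ l) := by
    intro l
    induction l with
    | zero => simp
    | succ n ih =>
      rw [pow_succ' C.y, mul_inv_rev,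
        show C.y * C.y ^ n * C.u * ((C.y ^ n)⁻¹ * C.y⁻¹) = C.y * (C.y ^ n * C.u * (C.y ^ n)⁻¹) * C.y⁻¹ by group,
        ih, ← conj_pow, C.hrel, ← pow_mul, pow_succ' C.s]
  have hk1 : ((C.s ^ m : ℕ) : ZMod p) ≠ 1 := by
    intro h
    rw [← Nat.cast_one, ZMod.natCast_eq_natCast_iff, C.hsord, hm] at h
    have := Nat.le_of_dvd hm0 h
    omega
  have hk2 : ((C.s ^ m : ℕ) : ZMod p) * (C.s ^ m : ℕ) = 1 := by
    rw [← Nat.cast_mul, ← Nat.cast_one, ZMod.natCast_eq_natCast_iff, ← pow_add, C.hsord, hm]
  have hk3 : p ∣ C.s ^ m + 1 := by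
    rw [← ZMod.natCast_eq_zero_iff, Nat.cast_add, Nat.cast_one,
      (mul_self_eq_one_iff.1 hk2).resolve_left hk1]
    ring
  have hinv : z * C.u * z⁻¹ = C.u⁻¹ := by
    rw [hz_def, hpow]
    refine eq_inv_of_mul_eq_one_left ?_
    rw [← pow_succ, ← orderOf_dvd_iff_pow_eq_one, C.hu]
    exact hk3
  set σ : Equiv.Perm α := ((z : G) : Equiv.Perm α) with hσ
  set τ : Equiv.Perm α := ((C.u : G) : Equiv.Perm α) with hτ
  have hστ : σ * τ * σ⁻¹ = τ⁻¹ := congrArg Subtype.val hinv
  have hσo : orderOf σ = 2 := by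
    rw [hσ, Subgroup.orderOf_coe, hz_def, orderOf_pow, hm, show m + m = m * 2 by omega,
      Nat.gcd_mul_right_left, Nat.mul_div_cancel_left _ hm0]
  have hτo : orderOf τ = p := by rw [hτ, Subgroup.orderOf_coe, C.hu]
  have hfix : ∀ x x' : α, σ x = x → σ x' = x' → x' = x := by
    intro x x' hx hx'
    obtain ⟨i, rfl⟩ := exists_pow_apply hα hτo x x'
    have h1 : σ ((τ ^ i) x) = (τ ^ i)⁻¹ x := by
      have h2 : σ * τ ^ i * σ⁻¹ = (τ ^ i)⁻¹ := by rw [← conj_pow, hστ, inv_pow]
      conv_rhs => rw [← h2, Equiv.Perm.mul_apply, Equiv.Perm.mul_apply,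
        show σ⁻¹ x = x from (Equiv.Perm.inv_eq_iff_eq).2 hx.symm]
    rw [hx'] at h1
    have h3 : (τ ^ (2 * i)) x = x := by
      rw [two_mul, pow_add, Equiv.Perm.mul_apply, h1, Equiv.Perm.coe_inv, Equiv.apply_symm_apply]
    have h4 : p ∣ 2 * i := by
      by_contra hnd
      have hord : orderOf (τ ^ (2 * i)) = p := by
        rw [orderOf_pow, hτo, ((hp.out.coprime_iff_not_dvd).2 hnd).gcd_eq_one, Nat.div_one]
      have hsub : ∀ w : α, w = x := fun w => by
        obtain ⟨j, rfl⟩ := exists_pow_apply hα hord x w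
        exact Function.IsFixedPt.perm_pow h3 j
      have : Fintype.card α ≤ 1 := Fintype.card_le_one_iff.2 fun a b => (hsub a).trans (hsub b).symm
      omega
    have h5 : p ∣ i := ((hp.out).dvd_mul.1 h4).resolve_left fun h => by
      have := Nat.le_of_dvd (by norm_num) h; omega
    obtain ⟨j, rfl⟩ := h5
    rw [pow_mul, ← hτo, pow_orderOf_eq_one, one_pow]; rfl
  have hle : σ.support.card + 1 ≥ p := by
    have h1 : σ.supportᶜ.card ≤ 1 := Finset.card_le_one.2 fun a ha b hb =>
      (hfix a b (Equiv.Perm.notMem_support.1 (Finset.mem_compl.1 ha))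
        (Equiv.Perm.notMem_support.1 (Finset.mem_compl.1 hb))).symm
    have h2 := σ.support.card_add_card_compl
    omega
  obtain ⟨n, hn⟩ := Equiv.Perm.cycleType_prime_order (σ := σ) (hσo.symm ▸ Nat.prime_two)
  rw [hσo] at hn
  have hsupp : σ.support.card = (n + 1) * 2 := by
    rw [← Equiv.Perm.sum_cycleType, hn, Multiset.sum_replicate, smul_eq_mul]
  have hle2 : σ.support.card ≤ p := (Finset.card_le_univ _).trans_eq hα
  have hsign : Equiv.Perm.sign σ = 1 := by
    let f : G →* ℤˣ := Equiv.Perm.sign.comp G.subtype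
    rcases (MonoidHom.normal_ker f).eq_bot_or_eq_top with h | h
    · refine absurd ⟨⟨fun a b => ?_⟩⟩ hnab
      exact (MonoidHom.ker_eq_bot_iff f).1 h (by rw [map_mul, map_mul, mul_comm])
    · exact (MonoidHom.mem_ker (f := f)).1 (h ▸ Subgroup.mem_top z)
  rw [Equiv.Perm.sign_of_cycleType, hn, Multiset.sum_replicate, Multiset.card_replicate, smul_eq_mul] at hsign
  intro hp4
  have hodd : Odd ((n + 1) * 2 + (n + 1)) := by
    rw [Nat.odd_iff]; omega
  rw [hodd.neg_one_pow] at hsign
  exact absurd hsign (by decide)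

/-- The `PSL₂(q)` with a subgroup of prime index `p ≥ 5` and order dividing `p!`. -/
theorem eq_of_psl {F : Type} [Field F] [Fintype F] (hodd : Odd (Fintype.card F))
    (h3 : 3 < Fintype.card F) (hp5 : 5 ≤ p)
    (hle : Nat.card (Matrix.ProjectiveSpecialLinearGroup (Fin 2) F) ≤ p.factorial)
    (H : Subgroup (Matrix.ProjectiveSpecialLinearGroup (Fin 2) F)) (hH : H.index = p) :
    Fintype.card F = p ∧ (p = 5 ∨ p = 7 ∨ p = 11) := by
  classical
  set q := Fintype.card F with hq
  have hp' := hp.out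
  have hcard := Cfsg.Lib.GW.DGroup.card_psl_two (F := F) hodd
  rw [← hq] at hcard
  have hdvd : p ∣ Nat.card (Matrix.ProjectiveSpecialLinearGroup (Fin 2) F) := hH ▸ H.index_dvd_card
  set P := Nat.card (Matrix.ProjectiveSpecialLinearGroup (Fin 2) F) with hP
  by_cases hsmall : q ∈ ({2, 3, 5, 7, 9, 11} : Finset ℕ)
  · simp only [Finset.mem_insert, Finset.mem_singleton] at hsmall
    obtain ⟨o, ho⟩ := hodd
    have h5 : p.factorial ≤ 120 → p ≤ 5 := fun h => by
      by_contra hc
      have := Nat.factorial_le (show 6 ≤ p by omega)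
      norm_num [Nat.factorial] at this
      omega
    have key : ∀ {r : ℕ}, r.Prime → p ∣ r → p = r := fun hr h =>
      (Nat.prime_dvd_prime_iff_eq hp' hr).1 h
    rcases hsmall with h | h | h | h | h | h <;> rw [h] at hcard ⊢ <;> norm_num at hcard
    · omega
    · omega
    · have hP' : P = 2 ^ 2 * 3 * 5 := by omega
      rw [hP'] at hdvd
      rcases (Nat.Prime.dvd_mul hp').1 hdvd with hd | hd
      · rcases (Nat.Prime.dvd_mul hp').1 hd with hd' | hd'
        · have := key Nat.prime_two (hp'.dvd_of_dvd_pow hd'); omega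
        · have := key Nat.prime_three hd'; omega
      · have := key Nat.prime_five hd; omega
    · have hP' : P = 2 ^ 3 * 3 * 7 := by omega
      rw [hP'] at hdvd
      rcases (Nat.Prime.dvd_mul hp').1 hdvd with hd | hd
      · rcases (Nat.Prime.dvd_mul hp').1 hd with hd' | hd'
        · have := key Nat.prime_two (hp'.dvd_of_dvd_pow hd'); omega
        · have := key Nat.prime_three hd'; omega
      · have := key (r := 7) (by norm_num) hd; omega
    · have hP' : P = 2 ^ 3 * 3 ^ 2 * 5 := by omega
      rw [hP'] at hdvd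
      rcases (Nat.Prime.dvd_mul hp').1 hdvd with hd | hd
      · rcases (Nat.Prime.dvd_mul hp').1 hd with hd' | hd'
        · have := key Nat.prime_two (hp'.dvd_of_dvd_pow hd'); omega
        · have := key Nat.prime_three (hp'.dvd_of_dvd_pow hd'); omega
      · have := key Nat.prime_five hd
        subst this
        norm_num [Nat.factorial] at hle
        omega
    · have hP' : P = 2 ^ 2 * 3 * 5 * 11 := by omega
      rw [hP'] at hdvd
      rcases (Nat.Prime.dvd_mul hp').1 hdvd with hd | hd
      · rcases (Nat.Prime.dvd_mul hp').1 hd with hd' | hd'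
        · rcases (Nat.Prime.dvd_mul hp').1 hd' with hd'' | hd''
          · have := key Nat.prime_two (hp'.dvd_of_dvd_pow hd''); omega
          · have := key Nat.prime_three hd''; omega
        · have := key Nat.prime_five hd'
          subst this
          norm_num [Nat.factorial] at hle
          omega
      · have := key (r := 11) (by norm_num) hd; omega
  · exfalso
    have hne : H ≠ ⊤ := fun h => by
      rw [h, Subgroup.index_top] at hH; omega
    have hge := (Cfsg.Agent.S0806.result (q := q) rfl hsmall).1 H hne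
    rw [hH] at hge
    have h2 : p ∣ q * ((q - 1) * (q + 1)) := by
      refine hdvd.trans ⟨2, ?_⟩
      obtain ⟨r, hr⟩ : ∃ r, q = r + 1 := ⟨q - 1, by omega⟩
      rw [hr] at hcard ⊢
      rw [Nat.add_sub_cancel]
      nlinarith
    have hnd : ∀ r : ℕ, 0 < r → r < p → ¬ p ∣ r := fun r hr hrp hd => by
      have := Nat.le_of_dvd hr hd; omega
    rcases (Nat.Prime.dvd_mul hp').1 h2 with h | h
    · exact hnd q (by omega) (by omega) h
    rcases (Nat.Prime.dvd_mul hp').1 h with h | h
    · exact hnd (q - 1) (by omega) (by omega) h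
    · have h4 : p = q + 1 := le_antisymm (Nat.le_of_dvd (by omega) h) hge
      obtain ⟨j, hj⟩ := hodd
      have h5 : 2 ∣ p := ⟨j + 1, by omega⟩
      have := (Nat.prime_dvd_prime_iff_eq Nat.prime_two hp').1 h5
      omega

end Cfsg.Lib.UniquePDegree
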