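import Mathlib

/-!
# A unipotent map of order `p` normalized by a map of order prime to `p`
-/

set_option autoImplicit false
set_option linter.unusedSectionVars false
set_option linter.style.haveILetI false

namespace Cfsg.Lib.UniquePDegree

open Module

variable {k : Type*} [Field k] {M : Type*} [AddCommGroup M] [Module k M]

/-- An invariant subspace not inside `K'` contains an eigenvector outside `K'`. -/
theorem exists_eigen {e : ℕ} (ζ : k) (hζ : IsPrimitiveRoot ζ e) (he : (e : k) ≠ 0)
    {y : Module.End k M} (hy : y ^ e = 1) {K K' : Submodule k M} (hK : ∀ v ∈ K, y v ∈ K)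
    {x : M} (hx : x ∈ K) (hx' : x ∉ K') :
    ∃ v ∈ K, v ∉ K' ∧ ∃ ν : k, ν ^ e = 1 ∧ y v = ν • v := by
  have hpowK : ∀ i : ℕ, (y ^ i) x ∈ K := by
    intro i
    induction i with
    | zero => simpa using hx
    | succ n ih => rw [pow_succ', Module.End.mul_apply]; exact hK _ ih
  have hζ0 : ζ ≠ 0 := hζ.ne_zero (fun h => he (by simp [h]))
  set w : ℕ → M := fun j => ∑ i ∈ Finset.range e, ((ζ ^ j) ^ i) • (y ^ i) x with hw
  have hsum : ∑ j ∈ Finset.range e, w j = (e : k) • x := by
    rw [hw, Finset.sum_comm]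
    simp only [← Finset.sum_smul]
    rw [Finset.sum_eq_single 0]
    · simp
    · intro i hi hi0
      have hne : ζ ^ i ≠ 1 := hζ.pow_ne_one_of_pos_of_lt hi0 (Finset.mem_range.1 hi)
      have h1 : ∑ j ∈ Finset.range e, (ζ ^ j) ^ i = 0 := by
        simp only [← pow_mul, mul_comm _ i]
        simp only [pow_mul]
        rw [geom_sum_eq hne, ← pow_mul, mul_comm, pow_mul, hζ.pow_eq_one, one_pow, sub_self, zero_div]
      rw [h1, zero_smul]
    · intro h
      simp only [Finset.mem_range, not_lt, Nat.le_zero] at h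
      simp [h]
  obtain ⟨j, -, hj⟩ : ∃ j ∈ Finset.range e, w j ∉ K' := by
    by_contra h
    push Not at h
    refine hx' ?_
    have := K'.smul_mem (e : k)⁻¹ (K'.sum_mem h)
    rwa [hsum, smul_smul, inv_mul_cancel₀ he, one_smul] at this
  refine ⟨w j, K.sum_mem fun i _ => K.smul_mem _ (hpowK i), hj, (ζ ^ j)⁻¹, ?_, ?_⟩
  · rw [inv_pow, ← pow_mul, mul_comm, pow_mul, hζ.pow_eq_one, one_pow, inv_one]
  · set z := ζ ^ j with hz
    have hz0 : z ≠ 0 := pow_ne_zero _ hζ0
    have hze : z ^ e = 1 := by rw [hz, ← pow_mul, mul_comm, pow_mul, hζ.pow_eq_one, one_pow]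
    have hshift : z • y (w j) = w j := by
      simp only [hw, map_sum, map_smul, Finset.smul_sum, smul_smul, ← pow_succ', ← hz]
      have e1 : ∀ i, y ((y ^ i) x) = (y ^ (i + 1)) x := fun i => by
        rw [pow_succ' y, Module.End.mul_apply]
      simp only [e1]
      have h3 := Finset.sum_range_succ' (fun i => z ^ i • (y ^ i) x) e
      rw [Finset.sum_range_succ, hze, hy] at h3
      simpa using h3.symm
    calc y (w j) = z⁻¹ • (z • y (w j)) := by rw [smul_smul, inv_mul_cancel₀ hz0, one_smul]
      _ = z⁻¹ • w j := by rw [hshift]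

variable (U y : Module.End k M) {p e s : ℕ}

/-- The relation between `y` and `(U - 1) ^ i`. -/
theorem exists_twist (hrel : y * U = U ^ s * y) (i : ℕ) : ∃ R : Module.End k M,
    Commute R (U - 1) ∧ y * (U - 1) ^ i = (U - 1) ^ i * (((s : k) ^ i • 1 + (U - 1) * R) * y) := by
  set D := U - 1 with hD
  set Q := ∑ j ∈ Finset.range s, U ^ j with hQ
  have hU : ∀ l : ℕ, Commute (U ^ l) D := fun l =>
    ((Commute.refl U).pow_left l).sub_right (Commute.one_right _)
  have hQD : Commute Q D := Commute.sum_left _ _ _ fun j _ => hU j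
  set R₁ := ∑ j ∈ Finset.range s, ∑ l ∈ Finset.range j, U ^ l with hR
  have hR₁ : Commute R₁ D := Commute.sum_left _ _ _ fun j _ => Commute.sum_left _ _ _ fun l _ => hU l
  have hQe : Q = (s : k) • (1 : Module.End k M) + D * R₁ := by
    rw [hR, Finset.mul_sum]
    simp only [hD, mul_geom_sum, Finset.sum_sub_distrib, Finset.sum_const, Finset.card_range]
    rw [Nat.cast_smul_eq_nsmul, hQ, add_sub_cancel]
  induction i with
  | zero => exact ⟨0, Commute.zero_left _, by simp⟩
  | succ n ih =>
    obtain ⟨R, hRc, hRe⟩ := ih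
    refine ⟨(s : k) • R + (s : k) ^ n • R₁ + R * (D * R₁), ?_, ?_⟩
    · exact ((hRc.smul_left _).add_left (hR₁.smul_left _)).add_left
        (hRc.mul_left ((Commute.refl D).mul_left hR₁))
    · have hyD : y * D = D * Q * y := by
        rw [hD, hQ, mul_geom_sum, mul_sub, hrel, mul_one, sub_mul, one_mul]
      have hc : Commute ((s : k) ^ n • (1 : Module.End k M) + D * R) D :=
        ((Commute.one_left D).smul_left _).add_left ((Commute.refl D).mul_left hRc)
      calc y * D ^ (n + 1) = y * D ^ n * D := by rw [pow_succ, mul_assoc]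
        _ = D ^ n * (((s : k) ^ n • 1 + D * R) * D) * (Q * y) := by
            rw [hRe]; simp only [mul_assoc, hyD]
        _ = D ^ (n + 1) * ((((s : k) ^ n • 1 + D * R) * Q) * y) := by
            rw [hc.eq, pow_succ]; simp only [mul_assoc]
        _ = _ := by
            congr 2
            rw [hQe]
            simp only [add_mul, mul_add, smul_mul_assoc, mul_smul_comm, one_mul, mul_one, smul_add,
              smul_smul, mul_assoc]
            rw [← pow_succ']
            abel

/-- The trace of `y` when `U - 1` has a single block of size `r`. -/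
theorem trace_eq_of_cyclic [FiniteDimensional k M] {ζ : k} (hζ : IsPrimitiveRoot ζ e) (he : (e : k) ≠ 0)
    (hy : y ^ e = 1) (hrel : y * U = U ^ s * y) (hU : IsNilpotent (U - 1)) {r : ℕ} (hr0 : 0 < r)
    (hfin : finrank k M = r) (htop : (U - 1) ^ (r - 1) ≠ 0) :
    ∃ ν : k, ν ^ e = 1 ∧ LinearMap.trace k M y = ν * ∑ i ∈ Finset.range r, (s : k) ^ i ∧
      ∀ y' : Module.End k M, ∀ s' : ℕ, y' * y = 1 → y' * U = U ^ s' * y' →
        LinearMap.trace k M y' = ν⁻¹ * ∑ i ∈ Finset.range r, (s' : k) ^ i := by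
  classical
  set D := U - 1 with hD
  have hDr : D ^ r = 0 := by
    have h1 := IsNilpotent.charpoly_eq_X_pow_finrank (φ := D) hU
    have h2 := LinearMap.aeval_self_charpoly D
    rwa [h1, map_pow, Polynomial.aeval_X, hfin] at h2
  set K' := LinearMap.ker (D ^ (r - 1)) with hK'
  obtain ⟨x0, hx0⟩ : ∃ x, x ∉ K' := by
    by_contra h
    push Not at h
    exact htop (LinearMap.ext h)
  obtain ⟨x, -, hx, ν, hνe, hyx⟩ := exists_eigen ζ hζ he hy (K := ⊤) (fun v _ => trivial)
    (Submodule.mem_top (x := x0)) hx0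
  have hx1 : (D ^ (r - 1)) x ≠ 0 := hx
  set b : Fin r → M := fun i => (D ^ (i : ℕ)) x with hb
  have hli : LinearIndependent k b := by
    rw [Fintype.linearIndependent_iff]
    intro c hc
    by_contra hne
    push Not at hne
    obtain ⟨j, hj, hmin⟩ := Finset.exists_min_image (Finset.univ.filter fun i : Fin r => c i ≠ 0)
      (fun i => (i : ℕ)) (by obtain ⟨i, hi⟩ := hne; exact ⟨i, by simp [hi]⟩)
    simp only [Finset.mem_filter, Finset.mem_univ, true_and] at hj hmin
    have h := congrArg (D ^ (r - 1 - (j : ℕ))) hc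
    rw [map_sum, map_zero, Finset.sum_eq_single j] at h
    · rw [map_smul, hb, ← Module.End.mul_apply, ← pow_add,
        show r - 1 - (j : ℕ) + (j : ℕ) = r - 1 by have := j.2; omega] at h
      exact hj ((smul_eq_zero.1 h).resolve_right hx1)
    · intro i _ hij
      by_cases hci : c i = 0
      · simp [hci]
      · have h2 := hmin i hci
        have h3 : (j : ℕ) ≠ i := fun h' => hij (Fin.ext h'.symm)
        rw [map_smul, hb, ← Module.End.mul_apply, ← pow_add,
          pow_eq_zero_of_le (show r ≤ r - 1 - (j : ℕ) + (i : ℕ) by omega) hDr]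
        simp
    · simp
  haveI : Nonempty (Fin r) := ⟨⟨0, hr0⟩⟩
  let bb : Basis (Fin r) k M := basisOfLinearIndependentOfCardEqFinrank hli (by simp [hfin])
  have hbb : ∀ i, bb i = (D ^ (i : ℕ)) x := fun i => by simp [bb, hb]
  have hhigh : ∀ (i : Fin r) (v : M), bb.repr ((D ^ ((i : ℕ) + 1)) v) i = 0 := by
    intro i v
    conv_lhs => rw [← bb.sum_repr v]
    simp only [map_sum, map_smul, Finsupp.coe_finsetSum, Finset.sum_apply, Finsupp.smul_apply, smul_eq_mul]
    refine Finset.sum_eq_zero fun j _ => mul_eq_zero_of_right _ ?_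
    rw [hbb, ← Module.End.mul_apply, ← pow_add]
    by_cases hlt : (i : ℕ) + 1 + (j : ℕ) < r
    · rw [← hbb ⟨(i : ℕ) + 1 + (j : ℕ), hlt⟩, Basis.repr_self, Finsupp.single_apply, if_neg]
      intro h
      have h4 : (i : ℕ) + 1 + (j : ℕ) = i := congrArg Fin.val h
      omega
    · rw [pow_eq_zero_of_le (by omega) hDr]
      simp
  have key : ∀ (z : Module.End k M) (t : ℕ) (μ : k), z * U = U ^ t * z → z x = μ • x →
      LinearMap.trace k M z = μ * ∑ i ∈ Finset.range r, (t : k) ^ i := by
    intro z t μ hz hzx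
    rw [LinearMap.trace_eq_matrix_trace k bb, Matrix.trace, Finset.mul_sum, ← Fin.sum_univ_eq_sum_range]
    refine Finset.sum_congr rfl fun i _ => ?_
    rw [Matrix.diag_apply, LinearMap.toMatrix_apply]
    obtain ⟨R, hRc, hRe⟩ := exists_twist (k := k) U z hz (i : ℕ)
    rw [hbb, ← Module.End.mul_apply, hRe]
    simp only [Module.End.mul_apply, hzx, LinearMap.add_apply, LinearMap.smul_apply, map_add, map_smul,
      Module.End.one_apply, Finsupp.add_apply, Finsupp.smul_apply, smul_eq_mul]
    rw [← Module.End.mul_apply (D ^ (i : ℕ)) D, ← pow_succ, hhigh, ← hbb, Basis.repr_self,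
      Finsupp.single_eq_same]
    ring
  refine ⟨ν, hνe, key y s ν hrel hyx, fun y' s' hy' hrel' => key y' s' ν⁻¹ hrel' ?_⟩
  have hν0 : ν ≠ 0 := fun h => by
    rcases eq_or_ne e 0 with rfl | h0
    · exact he Nat.cast_zero
    · rw [h, zero_pow h0] at hνe; exact zero_ne_one hνe
  have := congrArg (fun f : Module.End k M => f x) hy'
  simp only [Module.End.mul_apply, hyx, map_smul, Module.End.one_apply] at this
  conv_rhs => rw [← this]
  rw [smul_smul, inv_mul_cancel₀ hν0, one_smul]

/-- If every endomorphism commuting with `U` and `y` is a scalar on the fixed space of `U`, then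
`U - 1` has one block. -/
theorem finrank_le_of_scalar [FiniteDimensional k M] {ζ : k} (hζ : IsPrimitiveRoot ζ e)
    (he : (e : k) ≠ 0) (hy : y ^ e = 1) (hU : U ^ p = 1) (hrel : y * U = U ^ s * y)
    (hse : s ^ e ≡ 1 [MOD p]) {m : ℕ} (hm : (U - 1) ^ m = 0) (hm' : (U - 1) ^ (m - 1) ≠ 0)
    (hsc : ∀ f : Module.End k M, Commute f U → Commute f y →
      ∃ c : k, ∀ v, (U - 1) v = 0 → f v = c • v) :
    finrank k M ≤ m := by
  classical
  set D := U - 1 with hD
  have hm1 : 1 ≤ m := by
    by_contra h
    have h0 : m = 0 := by omega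
    rw [h0] at hm hm'
    exact hm' hm
  have hUc : Commute U D := (Commute.refl U).sub_right (Commute.one_right _)
  obtain ⟨l, hlK, hl0, ε, hεe, hyl⟩ : ∃ v ∈ LinearMap.range (D ^ (m - 1)), v ∉ (⊥ : Submodule k M) ∧
      ∃ ν : k, ν ^ e = 1 ∧ y v = ν • v := by
    obtain ⟨x0, hx0⟩ : ∃ x, (D ^ (m - 1)) x ≠ 0 := by
      by_contra h
      push Not at h
      exact hm' (LinearMap.ext h)
    refine exists_eigen ζ hζ he hy ?_ ⟨x0, rfl⟩ (by simpa using hx0)
    rintro v ⟨w, rfl⟩
    obtain ⟨R, hRc, hRe⟩ := exists_twist (k := k) U y hrel (m - 1)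
    exact ⟨_, (congrArg (fun f : Module.End k M => f w) hRe).symm⟩
  obtain ⟨x, hx⟩ := hlK
  obtain ⟨φ, hφ⟩ : ∃ φ : M →ₗ[k] k, φ l = 1 :=
    by
      obtain ⟨ψ, hψ⟩ : ∃ ψ : M →ₗ[k] k, ψ l ≠ 0 := by
        by_contra h
        push Not at h
        exact hl0 ((Submodule.mem_bot k).2 ((Module.forall_dual_apply_eq_zero_iff k l).1 h))
      exact ⟨(ψ l)⁻¹ • ψ, by simp [hψ]⟩
  set f0 : Module.End k M :=
    ∑ i ∈ Finset.range m, (φ ∘ₗ (D ^ (m - 1 - i))).smulRight ((D ^ i) x) with hf0
  have hf0v : ∀ v, f0 v = ∑ i ∈ Finset.range m, φ ((D ^ (m - 1 - i)) v) • (D ^ i) x := fun v => by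
    simp [hf0, LinearMap.sum_apply]
  have hf0D : Commute f0 D := by
    refine LinearMap.ext fun v => ?_
    simp only [Module.End.mul_apply, hf0v, map_sum, map_smul]
    obtain ⟨n, hn⟩ : ∃ n, m = n + 1 := ⟨m - 1, by omega⟩
    rw [hn] at hm ⊢
    rw [Finset.sum_range_succ', Finset.sum_range_succ]
    rw [← Module.End.mul_apply (D ^ (n + 1 - 1 - 0)) D, ← pow_succ, ← Module.End.mul_apply D (D ^ n),
      ← pow_succ', show n + 1 - 1 - 0 + 1 = n + 1 by omega, hm]
    simp only [LinearMap.zero_apply, map_zero, zero_smul, add_zero, smul_zero]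
    refine Finset.sum_congr rfl fun i hi => ?_
    have := Finset.mem_range.1 hi
    rw [← Module.End.mul_apply (D ^ _) D, ← pow_succ, ← Module.End.mul_apply D (D ^ i), ← pow_succ',
      show n + 1 - 1 - (i + 1) + 1 = n + 1 - 1 - i by omega]
  have hf0U : Commute f0 U := by
    have := hf0D.add_right (Commute.one_right f0)
    rwa [hD, sub_add_cancel] at this
  have hconj : ∀ i : ℕ, y ^ i * U = U ^ (s ^ i) * y ^ i := by
    have h1 : ∀ a : ℕ, y * U ^ a = U ^ (s * a) * y := by
      intro a
      induction a with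
      | zero => simp
      | succ n ih => rw [pow_succ, ← mul_assoc, ih, mul_assoc, hrel, ← mul_assoc, ← pow_add, Nat.mul_succ]
    intro i
    induction i with
    | zero => simp
    | succ n ih =>
      rw [pow_succ', mul_assoc, ih, ← mul_assoc, h1, mul_assoc, pow_succ' s]
  have hUse : U ^ (s ^ e) = U := by
    have h1 : U ^ (s ^ e) = U ^ (s ^ e % p) := pow_eq_pow_mod _ hU
    rw [h1, show s ^ e % p = 1 % p from hse, ← pow_eq_pow_mod _ hU, pow_one]
  set f : Module.End k M := ∑ i ∈ Finset.range e, y ^ i * f0 * y ^ (e - i) with hf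
  have hfU : Commute f U := by
    refine Commute.sum_left _ _ _ fun i hi => ?_
    have hi' := Finset.mem_range.1 hi
    have h2 : y ^ i * U ^ (s ^ (e - i)) = U * y ^ i := by
      have h1 : ∀ a : ℕ, y ^ i * U ^ a = U ^ (s ^ i * a) * y ^ i := by
        intro a
        induction a with
        | zero => simp
        | succ n ih => rw [pow_succ, ← mul_assoc, ih, mul_assoc, hconj, ← mul_assoc, ← pow_add, Nat.mul_succ]
      rw [h1, ← pow_add, show i + (e - i) = e by omega, hUse]
    show y ^ i * f0 * y ^ (e - i) * U = U * (y ^ i * f0 * y ^ (e - i))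
    rw [mul_assoc, hconj, ← mul_assoc, mul_assoc (y ^ i) f0, (hf0U.pow_right _).eq, ← mul_assoc, h2]
    simp only [mul_assoc]
  have hfy : Commute f y := by
    obtain ⟨n, hn⟩ : ∃ n, e = n + 1 := ⟨e - 1, by
      rcases Nat.eq_zero_or_pos e with h | h
      · exact absurd (by simp [h]) he
      · omega⟩
    show f * y = y * f
    rw [hf, Finset.sum_mul, Finset.mul_sum, hn, Finset.sum_range_succ', Finset.sum_range_succ]
    rw [hn] at hy
    congr 1
    · refine Finset.sum_congr rfl fun i hi => ?_
      have := Finset.mem_range.1 hi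
      rw [show n + 1 - i = n + 1 - (i + 1) + 1 by omega, pow_succ' y i, pow_succ]
      simp only [mul_assoc]
    · rw [mul_assoc _ (y ^ (n + 1 - 0)) y, ← pow_succ, show n + 1 - 0 = n + 1 by omega, pow_succ, hy, pow_zero,
        one_mul, one_mul, ← mul_assoc, ← mul_assoc, ← pow_succ', hy, one_mul, show n + 1 - n = 1 by omega,
        pow_one]
  obtain ⟨c, hc⟩ := hsc f hfU hfy
  have hker : ∀ v, D v = 0 → f0 v = φ v • l := by
    intro v hv
    rw [hf0v, Finset.sum_eq_single (m - 1)]
    · rw [show m - 1 - (m - 1) = 0 by omega, pow_zero, Module.End.one_apply, hx]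
    · intro i hi hne
      have := Finset.mem_range.1 hi
      rw [show m - 1 - i = (m - 2 - i) + 1 by omega, pow_succ, Module.End.mul_apply, hv]
      simp
    · intro h
      simp only [Finset.mem_range] at h
      omega
  have hyK : ∀ (i : ℕ) v, D v = 0 → D ((y ^ i) v) = 0 := by
    intro i v hv
    have hUv : U v = v := sub_eq_zero.1 hv
    have hUpow : ∀ a : ℕ, (U ^ a) v = v := by
      intro a
      induction a with
      | zero => simp
      | succ n ih => rw [pow_succ, Module.End.mul_apply, hUv, ih]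
    show U ((y ^ i) v) - (y ^ i) v = 0
    have h2 : U * y ^ i = y ^ i * U ^ (s ^ (i * e - i)) := by
      have h1 : ∀ a : ℕ, y ^ i * U ^ a = U ^ (s ^ i * a) * y ^ i := by
        intro a
        induction a with
        | zero => simp
        | succ n ih => rw [pow_succ, ← mul_assoc, ih, mul_assoc, hconj, ← mul_assoc, ← pow_add, Nat.mul_succ]
      rw [h1, ← pow_add]
      rcases Nat.eq_zero_or_pos e with h | h
      · exact absurd (by simp [h]) he
      rw [Nat.add_sub_cancel' (Nat.le_mul_of_pos_right i h)]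
      congr 1
      have h3 : s ^ (i * e) % p = 1 % p := by
        rw [mul_comm, pow_mul, Nat.pow_mod, show s ^ e % p = 1 % p from hse, ← Nat.pow_mod, one_pow]
      rw [pow_eq_pow_mod _ hU, h3, ← pow_eq_pow_mod _ hU, pow_one]
    rw [← Module.End.mul_apply, h2, Module.End.mul_apply, hUpow, sub_self]
  have hyl' : ∀ i : ℕ, (y ^ i) l = ε ^ i • l := by
    intro i
    induction i with
    | zero => simp
    | succ n ih => rw [pow_succ, Module.End.mul_apply, hyl, map_smul, ih, smul_smul, pow_succ']
  have hfv : ∀ v, D v = 0 → f v = (∑ i ∈ Finset.range e, φ ((y ^ (e - i)) v) * ε ^ i) • l := by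
    intro v hv
    simp only [hf, LinearMap.sum_apply, Module.End.mul_apply, Finset.sum_smul]
    refine Finset.sum_congr rfl fun i _ => ?_
    rw [hker _ (hyK _ v hv), map_smul, hyl', smul_smul]
  have hlD : D l = 0 := by
    rw [← hx, ← Module.End.mul_apply, ← pow_succ', show m - 1 + 1 = m by omega, hm]
    rfl
  have hce : c = (e : k) := by
    have h1 := (hc l hlD).symm.trans (hfv l hlD)
    have h2 : ∑ i ∈ Finset.range e, φ ((y ^ (e - i)) l) * ε ^ i = (e : k) := by
      rw [Finset.sum_congr rfl fun i hi => ?_, Finset.sum_const, Finset.card_range, nsmul_one]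
      rw [hyl', map_smul, smul_eq_mul, hφ, mul_one, ← pow_add, Nat.sub_add_cancel (Finset.mem_range.1 hi).le, hεe]
    rw [h2] at h1
    have h3 := congrArg φ h1
    simpa [hφ] using h3
  have hkerle : LinearMap.ker D ≤ Submodule.span k {l} := by
    intro v hv
    have h1 := hc v (LinearMap.mem_ker.1 hv)
    rw [hfv v (LinearMap.mem_ker.1 hv), hce] at h1
    rw [Submodule.mem_span_singleton]
    refine ⟨(e : k)⁻¹ * ∑ i ∈ Finset.range e, φ ((y ^ (e - i)) v) * ε ^ i, ?_⟩
    rw [mul_smul, h1, smul_smul, inv_mul_cancel₀ he, one_smul]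
  have hk1 : finrank k (LinearMap.ker D) ≤ 1 :=
    (Submodule.finrank_mono hkerle).trans ((finrank_span_le_card _).trans (by simp))
  have hrec : ∀ n : ℕ, finrank k M ≤ finrank k (LinearMap.range (D ^ n)) + n := by
    intro n
    induction n with
    | zero => rw [pow_zero, Module.End.one_eq_id, LinearMap.range_id, finrank_top, add_zero]
    | succ n ih =>
      set g := D.domRestrict (LinearMap.range (D ^ n)) with hg
      have h1 := LinearMap.finrank_range_add_finrank_ker g
      have h2 : LinearMap.range g = LinearMap.range (D ^ (n + 1)) := by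
        rw [hg, LinearMap.range_domRestrict, pow_succ', Module.End.mul_eq_comp, LinearMap.range_comp]
      have h3 : finrank k (LinearMap.ker g) ≤ 1 := by
        refine le_trans ?_ hk1
        refine LinearMap.finrank_le_finrank_of_injective (f := (Submodule.subtype _).restrict fun w hw => ?_) ?_
        · exact hw
        · intro a b h
          exact Subtype.ext (Subtype.ext (congrArg Subtype.val h :))
      rw [h2] at h1
      omega
  have := hrec m
  rw [hm, LinearMap.range_zero, finrank_bot] at this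
  omega

end Cfsg.Lib.UniquePDegree
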