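import Cfsg.Agent.Lib.Perm.UniquePDegree.Jordan
import Cfsg.Agent.Lib.HalfDeg.Low

/-!
# A self-dual module of dimension `p + 1`

A group whose Sylow `p`-subgroup has order `p`, with a Frobenius normalizer of odd complement
inverted by an outside element, has no real character of degree `p + 1` with the given values,
unless a nontrivial module has small Jordan blocks.
-/

set_option autoImplicit false
set_option linter.unusedSectionVars false
set_option linter.style.haveILetI false

namespace Cfsg.Lib.UniquePDegree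

open Module

/-- The trace is additive on an invariant subspace and its quotient. -/
theorem trace_eq_trace_add_trace {k M : Type*} [Field k] [AddCommGroup M] [Module k M]
    [FiniteDimensional k M] (W : Submodule k M) (f : Module.End k M) (hf : W ≤ W.comap f) :
    LinearMap.trace k M f = LinearMap.trace k W (f.restrict hf) +
      LinearMap.trace k (M ⧸ W) (W.mapQ W f hf) := by
  classical
  let bW := Module.Free.chooseBasis k W
  let bQ := Module.Free.chooseBasis k (M ⧸ W)
  rw [LinearMap.trace_eq_matrix_trace k (Basis.sumQuot bW bQ), LinearMap.trace_eq_matrix_trace k bW,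
    LinearMap.trace_eq_matrix_trace k bQ, Matrix.trace, Fintype.sum_sum_type]
  refine congrArg₂ (· + ·) (Finset.sum_congr rfl fun i _ => ?_) (Finset.sum_congr rfl fun i _ => ?_)
  · simp only [Matrix.diag_apply, LinearMap.toMatrix_apply, Basis.sumQuot_inl]
    exact Basis.sumQuot_repr_inl_of_mem ..
  · simp only [Matrix.diag_apply, LinearMap.toMatrix_apply, Basis.sumQuot_repr_inr]
    rw [← Basis.sumQuot_inr bW bQ i, W.mapQ_apply]
    simp

variable {G : Type*} [Group G] [Finite G] {p : ℕ} [hp : Fact p.Prime]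
variable {k : Type*} [Field k] [CharP k p] {M : Type*} [AddCommGroup M] [Module k M]

/-- A sum over the cosets of a subgroup fixing only the base coset. -/
theorem sum_cosets (N : Subgroup G) [Fintype (G ⧸ N)] {u : G} (huN : u ∈ N) (hu : u ^ p = 1)
    (hfix : ∀ g, g⁻¹ * u * g ∈ N → g ∈ N) (U : Module.End k M) (F : G ⧸ N → M)
    (hF : ∀ q, F (u • q) = U (F q)) :
    (∑ q, F q) - F ((1 : G) : G ⧸ N) ∈ LinearMap.range ((U - 1) ^ (p - 1)) := by
  classical
  set q₀ : G ⧸ N := ((1 : G) : G ⧸ N) with hq₀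
  set σ : Equiv.Perm (G ⧸ N) := MulAction.toPermHom G (G ⧸ N) u with hσ
  have hbase : u • q₀ = q₀ := by
    rw [hq₀, MulAction.Quotient.smul_coe, smul_eq_mul, mul_one, QuotientGroup.eq]
    simpa using N.inv_mem huN
  rw [← Finset.add_sum_erase _ _ (Finset.mem_univ q₀), add_sub_cancel_left]
  refine Cfsg.Lib.HalfDeg.sum_induction_orbits p σ (by rw [hσ, ← map_pow, hu, map_one])
    (Finset.univ.erase q₀) (fun q => ?_) (fun q hq => ?_) F
    (fun x => x ∈ LinearMap.range ((U - 1) ^ (p - 1))) (zero_mem _) (fun a b => add_mem) fun q => ?_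
  · simp only [Finset.mem_erase, Finset.mem_univ, and_true]
    show q ≠ q₀ ↔ u • q ≠ q₀
    constructor
    · intro h h'; exact h (MulAction.injective u (h'.trans hbase.symm))
    · intro h h'; exact h (h' ▸ hbase)
  · intro h
    simp only [Finset.mem_erase, Finset.mem_univ, and_true] at hq
    refine hq ?_
    revert h
    refine Quotient.inductionOn' q fun g h => ?_
    have h1 : ((u * g : G) : G ⧸ N) = (g : G ⧸ N) := h
    rw [QuotientGroup.eq] at h1
    have h2 : g⁻¹ * u * g ∈ N := by
      have := N.inv_mem h1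
      simpa [mul_assoc] using this
    show (g : G ⧸ N) = _
    rw [QuotientGroup.eq]
    simpa using N.inv_mem (hfix g h2)
  · refine ⟨F q, ?_⟩
    rw [← Cfsg.Lib.HalfDeg.geom_sum_eq_sub_one_pow (k := k) p U, LinearMap.sum_apply]
    refine Finset.sum_congr rfl fun i hi => ?_
    clear hi
    induction i with
    | zero => simp
    | succ n ih => rw [pow_succ', Module.End.mul_apply, ih, pow_succ' σ, Equiv.Perm.mul_apply]; exact (hF _).symm

variable [FiniteDimensional k M] [IsAlgClosed k] (σ : G →* Module.End k M) (N : Subgroup G)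

/-- Endomorphisms commuting with `N` are scalars on the fixed space of `u`. -/
theorem scalar_on_fixed [Nontrivial M] {u : G} (huN : u ∈ N) (hu : u ^ p = 1)
    (hfix : ∀ g, g⁻¹ * u * g ∈ N → g ∈ N) (hD : (σ u - 1) ^ (p - 1) = 0)
    (hirr : ∀ W : Submodule k M, (∀ g, ∀ w ∈ W, σ g w ∈ W) → W = ⊥ ∨ W = ⊤)
    (f : Module.End k M) (hf : ∀ g ∈ N, Commute (σ g) f) :
    ∃ c : k, ∀ v, (σ u - 1) v = 0 → f v = c • v := by
  classical
  haveI := Fintype.ofFinite (G ⧸ N)
  let T : G ⧸ N → Module.End k M := fun q => Quotient.liftOn' q (fun g => σ g * f * σ g⁻¹)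
    fun a b hab => by
      rw [QuotientGroup.leftRel_apply] at hab
      show σ a * f * σ a⁻¹ = σ b * f * σ b⁻¹
      have h2 : σ b * f * σ b⁻¹ = σ a * (σ (a⁻¹ * b) * f) * σ (a⁻¹ * b)⁻¹ * σ a⁻¹ := by
        conv_lhs => rw [show b = a * (a⁻¹ * b) by group]
        rw [mul_inv_rev, map_mul σ a, map_mul σ _ a⁻¹]
        simp only [mul_assoc]
      rw [h2, (hf _ hab).eq]
      simp only [mul_assoc]
      rw [← mul_assoc (σ (a⁻¹ * b)), ← map_mul, mul_inv_cancel, map_one, one_mul]
  have hTmul : ∀ g q, T (g • q) = σ g * T q * σ g⁻¹ := by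
    intro g q
    refine Quotient.inductionOn' q fun a => ?_
    show σ (g * a) * f * σ (g * a)⁻¹ = σ g * (σ a * f * σ a⁻¹) * σ g⁻¹
    rw [mul_inv_rev, map_mul, map_mul]
    simp only [mul_assoc]
  set Φ := ∑ q, T q with hΦ
  have hΦc : ∀ g, σ g * Φ = Φ * σ g := by
    intro g
    have h1 : Φ = σ g * Φ * σ g⁻¹ := by
      rw [hΦ, Finset.mul_sum, Finset.sum_mul]
      exact (Fintype.sum_equiv (MulAction.toPerm g) _ _ fun q => (hTmul g q).symm).symm
    conv_rhs => rw [h1]
    rw [mul_assoc, ← map_mul, inv_mul_cancel, map_one, mul_one]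
  obtain ⟨c, hc⟩ := Module.End.exists_eigenvalue Φ
  have htop : Module.End.eigenspace Φ c = ⊤ := by
    refine (hirr _ fun g w hw => ?_).resolve_left hc
    rw [Module.End.mem_eigenspace_iff] at hw ⊢
    rw [← Module.End.mul_apply, ← hΦc, Module.End.mul_apply, hw, map_smul]
  refine ⟨c, fun v hv => ?_⟩
  have hv' : Φ v = c • v := Module.End.mem_eigenspace_iff.1 (htop ▸ Submodule.mem_top)
  have hUv : σ u v = v := sub_eq_zero.1 hv
  have hUv' : σ u⁻¹ v = v := by
    conv_lhs => rw [← hUv]
    rw [← Module.End.mul_apply, ← map_mul, inv_mul_cancel, map_one, Module.End.one_apply]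
  have hsum := sum_cosets N huN hu hfix (σ u) (fun q => T q v) fun q => by
    rw [hTmul]
    simp only [Module.End.mul_apply, hUv']
  rw [hD, LinearMap.range_zero, Submodule.mem_bot, sub_eq_zero, ← LinearMap.sum_apply, ← hΦ, hv'] at hsum
  rw [hsum]
  show f v = (σ 1 * f * σ 1⁻¹) v
  simp

/-- A vector fixed by `N` lies in the image of the top power unless there is a fixed vector. -/
theorem mem_range_of_fixed {u : G} (huN : u ∈ N) (hu : u ^ p = 1)
    (hfix : ∀ g, g⁻¹ * u * g ∈ N → g ∈ N) (hnofix : ∀ v : M, (∀ g, σ g v = v) → v = 0)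
    {v : M} (hv : ∀ g ∈ N, σ g v = v) : v ∈ LinearMap.range ((σ u - 1) ^ (p - 1)) := by
  classical
  haveI := Fintype.ofFinite (G ⧸ N)
  let F : G ⧸ N → M := fun q => Quotient.liftOn' q (fun g => σ g v) fun a b hab => by
    rw [QuotientGroup.leftRel_apply] at hab
    show σ a v = σ b v
    conv_rhs => rw [show b = a * (a⁻¹ * b) by group, map_mul, Module.End.mul_apply, hv _ hab]
  have hFmul : ∀ g q, F (g • q) = σ g (F q) := fun g q => Quotient.inductionOn' q fun a => by
    show σ (g * a) v = σ g (σ a v)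
    rw [map_mul, Module.End.mul_apply]
  have h0 : ∑ q, F q = 0 := hnofix _ fun g => by
    rw [map_sum]
    exact Fintype.sum_equiv (MulAction.toPerm g) _ _ fun q => (hFmul g q).symm
  have hsum := sum_cosets N huN hu hfix (σ u) F fun q => hFmul u q
  rw [h0, zero_sub, Submodule.neg_mem_iff] at hsum
  have : F ((1 : G) : G ⧸ N) = v := by
    show σ 1 v = v
    rw [map_one, Module.End.one_apply]
  rwa [this] at hsum

end Cfsg.Lib.UniquePDegree
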