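import Cfsg.Agent.Lib.Char.CyclicTI
import Cfsg.Agent.Lib.Char.SignedIrr
import Cfsg.Agent.Lib.Char.Linear

/-!
# A real character of degree `p + 1`

If an abelian subgroup `E` of odd order is a trivial-intersection set with `|N(E) : E| = 2`,
inverted in its normalizer, and `G` has a single irreducible character of degree `p`, then some
character induced from `1 - λ` gives a real irreducible character of degree `p + 1`.
-/

set_option autoImplicit false
set_option linter.unusedSectionVars false
set_option linter.style.haveILetI false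
set_option maxHeartbeats 1600000

namespace Cfsg.Lib.UniquePDegree

open Cfsg Cfsg.Lib.Char
open scoped ComplexConjugate

universe u

variable {G : Type u} [Group G] [Fintype G]

/-- A class function on an abelian group with equal inner products at all nontrivial linear
characters. -/
theorem eq_of_equal_inner {A : Type u} [Group A] [Fintype A] (hc : ∀ a b : A, a * b = b * a)
    {f : A → ℂ} (hf : IsClassFunction A f) {m ε : ℂ} (h1 : classInner f (fun _ => 1) = m)
    (h : ∀ μ : A →* ℂˣ, μ ≠ 1 → classInner f (fun a => (μ a : ℂ)) = m - ε) :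
    f 1 = ε + (Nat.card A : ℂ) * (m - ε) ∧ ∀ a : A, a ≠ 1 → f a = ε := by
  classical
  set g : A → ℂ := fun a => ε + if a = 1 then (Nat.card A : ℂ) * (m - ε) else 0 with hg
  have hfg : f = g := by
    refine ext_classInner hf (fun a b => by simp [hg, conj_eq_one_iff]) fun χ hχ => ?_
    obtain ⟨μ, rfl⟩ := exists_hom_of_degree_one hχ.isCharacter (degree_eq_one_of_comm hc hχ)
    have hδ : classInner g (fun a => (μ a : ℂ)) =
        ε * classInner (fun _ => (1 : ℂ)) (fun a => (μ a : ℂ)) + (m - ε) := by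
      simp only [classInner, hg, add_mul, Finset.sum_add_distrib, mul_add, one_mul, ← Finset.mul_sum]
      congr 1
      · ring
      · rw [Finset.sum_eq_single 1 (fun b _ hb => by simp [hb]) (by simp), if_pos rfl, map_one,
          Units.val_one, map_one, mul_one, ← mul_assoc, inv_mul_cancel₀ card_cast_ne_zero, one_mul]
    rw [hδ]
    by_cases hμ : μ = 1
    · subst hμ
      have h2 : (fun a : A => (((1 : A →* ℂˣ) a : ℂˣ) : ℂ)) = fun _ => 1 := rfl
      rw [h2, h1, classInner_irr_self isIrrCharacter_one]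
      ring
    · rw [h μ hμ]
      have h3 := classInner_linear (1 : A →* ℂˣ) μ
      rw [if_neg (Ne.symm hμ)] at h3
      have h4 : (fun a : A => (((1 : A →* ℂˣ) a : ℂˣ) : ℂ)) = fun _ => 1 := rfl
      rw [h4] at h3
      rw [h3]; ring
  subst hfg
  exact ⟨by simp [hg], fun a ha => by simp [hg, ha]⟩

/-- The inner product of two differences `1 - λ`. -/
theorem classInner_one_sub {A : Type u} [Group A] [Fintype A] (l μ : A →* ℂˣ) (hl : l ≠ 1) (hμ : μ ≠ 1) :
    classInner (fun a => 1 - (l a : ℂ)) (fun a => 1 - (μ a : ℂ)) = if l = μ then 2 else 1 := by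
  classical
  have h4 : (fun a : A => (((1 : A →* ℂˣ) a : ℂˣ) : ℂ)) = fun _ => 1 := rfl
  have hsub : ∀ ν : A →* ℂˣ, (fun a => 1 - (ν a : ℂ)) = (fun _ : A => (1 : ℂ)) - fun a => (ν a : ℂ) :=
    fun _ => rfl
  rw [hsub l, hsub μ]
  rw [classInner_sub_left, classInner_sub_right, classInner_sub_right, ← h4, classInner_linear,
    classInner_linear, classInner_linear, classInner_linear, if_pos rfl, if_neg (Ne.symm hμ), if_neg hl]
  split_ifs <;> ring

/-- The real character of degree `p + 1`. -/
theorem exists_psi (p : ℕ) (hp : 1 < p) (E : Subgroup G) [Fintype E]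
    (hc : ∀ a b : E, a * b = b * a) (hodd : Odd (Nat.card E)) (h3 : 3 ≤ Nat.card E)
    (hmod : p % Nat.card E = 1) (w : G) (hw : ∀ x ∈ E, w * x * w⁻¹ = x⁻¹)
    (hN : ∀ g ∈ Subgroup.normalizer (E : Set G), g ∈ E ∨ g * w ∈ E) (hwE : w ∉ E)
    (hTI : ∀ g : G, ∀ x ∈ E, x ≠ 1 → g⁻¹ * x * g ∈ E → g ∈ Subgroup.normalizer (E : Set G))
    (huniq : ∃! χ : IrrCharacter G, (χ : G → ℂ) 1 = (p : ℂ)) :
    ∃ ψ : IrrCharacter G, (ψ : G → ℂ) 1 = ((p + 1 : ℕ) : ℂ) ∧ (∀ g, conj ((ψ : G → ℂ) g) = (ψ : G → ℂ) g) ∧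
      ∃ l : E →* ℂˣ, l ≠ 1 ∧ ∀ x : E, x ≠ 1 → (ψ : G → ℂ) x = (l x : ℂ) + ((l x : ℂ))⁻¹ := by
  classical
  obtain ⟨χp, hχp, hun⟩ := huniq
  set e := Nat.card E with he
  -- the induced differences
  set Γ : (E →* ℂˣ) → G → ℂ := fun μ => indFun E (fun a => 1 - (μ a : ℂ)) with hΓ
  have hgen : ∀ μ, IsGeneralizedCharacter G (Γ μ) := fun μ =>
    isGeneralizedCharacter_indFun E ((isIrrCharacter_one.isGeneralized).sub
      (isIrrCharacter_linear μ).isGeneralized)
  have hΓ1 : ∀ μ, Γ μ 1 = 0 := fun μ => by simp [hΓ, indFun_apply_one]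
  have hΓcf : ∀ μ, IsClassFunction G (Γ μ) := fun μ => (hgen μ).isClassFunction
  have hres : ∀ μ (x : E), Γ μ x = (1 - (μ x : ℂ)) + (1 - (μ x : ℂ)⁻¹) := by
    intro μ x
    by_cases hx : x = 1
    · subst hx; simp [hΓ1]
    have hx1 : (x : G) ≠ 1 := fun h => hx (Subtype.ext h)
    have hval : ∀ g : G, extendByZero E (fun a => 1 - (μ a : ℂ)) (g⁻¹ * x * g) =
        extendByZero E (fun _ => 1 - (μ x : ℂ)) g + extendByZero E (fun _ => 1 - (μ x : ℂ)⁻¹) (g * w) := by
      intro g
      by_cases hg : g ∈ E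
      · rw [extendByZero_of_mem E _ hg, extendByZero_of_notMem E _ (fun h => hwE ((E.mul_mem_cancel_left hg).1 h)),
          add_zero, extendByZero_of_mem E _ (E.mul_mem (E.mul_mem (E.inv_mem hg) x.2) hg)]
        congr 3
        refine Subtype.ext ?_
        have := congrArg Subtype.val (hc x ⟨g, hg⟩)
        simp only [Subgroup.coe_mul] at this
        show g⁻¹ * (x : G) * g = x
        rw [mul_assoc, this, inv_mul_cancel_left]
      rw [extendByZero_of_notMem E _ hg, zero_add]
      by_cases hgw : g * w ∈ E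
      · rw [extendByZero_of_mem E _ hgw]
        have hconj : g⁻¹ * (x : G) * g = ((x⁻¹ : E) : G) := by
          set a : G := g * w with ha
          have hxa : a⁻¹ * x * a = x := by
            have := congrArg Subtype.val (hc x ⟨a, hgw⟩)
            simp only [Subgroup.coe_mul] at this
            rw [mul_assoc, this, inv_mul_cancel_left]
          rw [show g = a * w⁻¹ by rw [ha, mul_inv_cancel_right],
            show (a * w⁻¹)⁻¹ * (x : G) * (a * w⁻¹) = w * (a⁻¹ * x * a) * w⁻¹ by group, hxa, hw _ x.2]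
          rfl
        rw [extendByZero_of_mem E _ (hconj ▸ (x⁻¹).2)]
        congr 1
        have : (⟨g⁻¹ * (x : G) * g, hconj ▸ (x⁻¹).2⟩ : E) = x⁻¹ := Subtype.ext hconj
        rw [this, map_inv, Units.val_inv_eq_inv_val]
      rw [extendByZero_of_notMem E _ hgw, extendByZero_of_notMem]
      intro hm
      rcases hN g (hTI g x x.2 hx1 hm) with h | h
      · exact hg h
      · exact hgw h
    show indFun E _ (x : G) = _
    simp only [indFun, hval, Finset.sum_add_distrib]
    rw [show (∑ g : G, extendByZero E (fun _ => 1 - (μ x : ℂ)⁻¹) (g * w)) =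
        ∑ g : G, extendByZero E (fun _ => 1 - (μ x : ℂ)⁻¹) g from
      Fintype.sum_equiv (Equiv.mulRight w) _ _ fun g => rfl]
    have hsum : ∀ c : ℂ, ∑ g : G, extendByZero E (fun _ => c) g = (Nat.card E : ℂ) * c := fun c => by
      have := sum_extendByZero E (fun _ => c) (fun _ => (1 : ℂ))
      simpa [Nat.card_eq_fintype_card] using this
    rw [hsum, hsum, ← mul_add, ← mul_assoc, inv_mul_cancel₀ card_cast_ne_zero, one_mul]
  have hΓΓ : ∀ l μ : E →* ℂˣ, l ≠ 1 → μ ≠ 1 → classInner (Γ l) (Γ μ) =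
      (if l = μ then 2 else 1) + (if l = μ⁻¹ then 2 else 1) := by
    intro l μ hl hμ
    show classInner (indFun E _) (Γ μ) = _
    rw [classInner_indFun E _ (hΓcf μ), show (fun h : E => Γ μ h) =
        (fun a : E => 1 - (μ a : ℂ)) + fun a : E => 1 - ((μ⁻¹) a : ℂ) from funext fun a => by
      rw [hres, Pi.add_apply]; simp,
      classInner_add_right, classInner_one_sub l μ hl hμ, classInner_one_sub l μ⁻¹ hl (fun h => hμ (MonoidHom.ext fun x => inv_eq_one.1 (DFunLike.congr_fun h x)))]
  have hΓone : ∀ μ : E →* ℂˣ, μ ≠ 1 → classInner (Γ μ) (fun _ => 1) = 1 := by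
    intro μ hμ
    show classInner (indFun E _) _ = _
    rw [classInner_indFun E _ (fun _ _ => rfl)]
    have h4 : (fun a : E => (((1 : E →* ℂˣ) a : ℂˣ) : ℂ)) = fun _ => 1 := rfl
    rw [show (fun a : E => 1 - (μ a : ℂ)) = (fun _ : E => (1 : ℂ)) - fun a : E => (μ a : ℂ) from rfl]
    rw [classInner_sub_left, ← h4, classInner_linear, classInner_linear, if_pos rfl, if_neg hμ]
    ring
  have hinv : ∀ μ : E →* ℂˣ, μ ≠ 1 → μ ≠ μ⁻¹ := by
    intro μ hμ h
    refine hμ (MonoidHom.ext fun a => ?_)
    have h2 : μ a ^ 2 = 1 := by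
      rw [sq]; nth_rw 1 [h]; rw [MonoidHom.inv_apply, inv_mul_cancel]
    have h5 : μ a ^ e = 1 := by rw [← map_pow, pow_card_eq_one', map_one]
    obtain ⟨j, hj⟩ := hodd
    rwa [hj, pow_succ, pow_mul, h2, one_pow, one_mul] at h5
  have hself : ∀ μ : E →* ℂˣ, μ ≠ 1 → classInner (Γ μ) (Γ μ) = 3 := fun μ hμ => by
    rw [hΓΓ μ μ hμ hμ, if_pos rfl, if_neg (hinv μ hμ)]; norm_num
  -- the multiplicities in the character of degree `p`
  have hcfχ := χp.2.isClassFunction
  set f : E → ℂ := fun a => (χp : G → ℂ) a with hf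
  have hfcf : IsClassFunction E f := fun a b => hcfχ a b
  have ha : ∀ μ, ∃ a : ℤ, classInner (Γ μ) (χp : G → ℂ) = a := fun μ =>
    (hgen μ).exists_int_classInner χp.2.isGeneralized
  choose a haeq using ha
  have hfa : ∀ μ : E →* ℂˣ, classInner f (fun x => (μ x : ℂ)) = classInner f (fun _ => 1) - (a μ : ℂ) := by
    intro μ
    have h1 : classInner (fun x : E => 1 - (μ x : ℂ)) f = (a μ : ℂ) := by
      rw [← classInner_indFun E _ hcfχ]; exact haeq μ
    have h2 := congrArg conj h1
    rw [classInner_conj_symm, map_intCast] at h2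
    change classInner f ((fun _ : E => (1 : ℂ)) - fun x => (μ x : ℂ)) = _ at h2
    rw [classInner_sub_right] at h2
    rw [← h2]; ring
  have hone : (fun _ : G => (1 : ℂ)) ≠ (χp : G → ℂ) := fun h => by
    have := congrFun h 1
    rw [hχp] at this
    norm_cast at this
    omega
  have hχone : classInner (χp : G → ℂ) (fun _ => 1) = 0 :=
    classInner_irr_ne χp.2 isIrrCharacter_one (Ne.symm hone)
  -- the remainders
  set R : (E →* ℂˣ) → G → ℂ := fun μ => Γ μ - (fun _ => 1) - (a μ : ℂ) • (χp : G → ℂ) with hR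
  have hRgen : ∀ μ, IsGeneralizedCharacter G (R μ) := fun μ =>
    ((hgen μ).sub isIrrCharacter_one.isGeneralized).sub (χp.2.isGeneralized.intCast_smul _)
  have hRR : ∀ l μ, l ≠ 1 → μ ≠ 1 →
      classInner (R l) (R μ) = classInner (Γ l) (Γ μ) - 1 - (a l : ℂ) * a μ := by
    intro l μ hl hμ
    have e1 : classInner (fun _ : G => (1 : ℂ)) (Γ μ) = 1 := by
      rw [← classInner_conj_symm, hΓone μ hμ, map_one]
    have e2 : classInner (fun _ : G => (1 : ℂ)) (χp : G → ℂ) = 0 :=
      classInner_irr_ne isIrrCharacter_one χp.2 hone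
    have e3 : classInner (χp : G → ℂ) (Γ μ) = (a μ : ℂ) := by
      rw [← classInner_conj_symm, haeq, map_intCast]
    simp only [hR, classInner_sub_left, classInner_sub_right, classInner_smul_left, classInner_smul_right,
      hΓone l hl, e1, e2, e3, haeq l, hχone, classInner_irr_self χp.2, classInner_irr_self isIrrCharacter_one,
      map_intCast]
    ring
  have hsq : ∀ μ : E →* ℂˣ, μ ≠ 1 → a μ = 0 ∨ a μ = 1 ∨ a μ = -1 := by
    intro μ hμ
    have h1 := classInner_self_nonneg (R μ)
    rw [hRR μ μ hμ hμ, hself μ hμ] at h1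
    simp only [Complex.sub_re, Complex.mul_re, Complex.intCast_re, Complex.intCast_im, Complex.one_re,
      Complex.re_ofNat, mul_zero, sub_zero] at h1
    have h2 : a μ * a μ ≤ 2 := by
      have : ((a μ * a μ : ℤ) : ℝ) ≤ ((2 : ℤ) : ℝ) := by push_cast; linarith
      exact_mod_cast this
    have h3 : a μ ≤ 1 := by nlinarith
    have h4 : -1 ≤ a μ := by nlinarith
    omega
  -- some multiplicity is nonzero
  obtain ⟨l, hl, hal⟩ : ∃ l : E →* ℂˣ, l ≠ 1 ∧ a l ≠ 0 := by
    by_contra h
    push Not at h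
    obtain ⟨h1, -⟩ := eq_of_equal_inner hc hfcf (m := classInner f (fun _ => 1)) (ε := 0) rfl
      fun μ hμ => by rw [hfa, h μ hμ, Int.cast_zero]
    obtain ⟨n, hn⟩ :=
      (χp.2.isCharacter.comp E.subtype).exists_nat_classInner isCharacter_one
    change classInner f (fun _ => 1) = (n : ℂ) at hn
    rw [hn, sub_zero, zero_add, show f 1 = (p : ℂ) by simp [hf, hχp]] at h1
    have h2 : p = e * n := by exact_mod_cast h1
    rw [h2, Nat.mul_mod_right] at hmod
    omega
  have hε : a l = 1 ∨ a l = -1 := (hsq l hl).resolve_left hal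
  have hasq : a l * a l = 1 := by rcases hε with h | h <;> simp [h]
  have hRl : classInner (R l) (R l) = 1 := by
    rw [hRR l l hl hl, hself l hl, ← Int.cast_mul, hasq]; norm_num
  obtain ⟨s, ψ, hs, hψ⟩ := exists_signed_irr_of_norm_one (hRgen l) hRl
  have hRl1 : R l 1 = -1 - (a l : ℂ) * p := by simp [hR, hΓ1, hχp]
  -- all multiplicities agree
  have hall : ∀ μ : E →* ℂˣ, μ ≠ 1 → a μ = a l := by
    intro μ hμ
    by_cases h1 : l = μ
    · rw [h1]
    by_cases h2 : l = μ⁻¹
    · have hsub : classInner (Γ l - Γ μ) (Γ l - Γ μ) = 0 := by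
        rw [classInner_sub_left (Γ l) (Γ μ), classInner_sub_right (Γ l) (Γ l) (Γ μ),
          classInner_sub_right (Γ μ) (Γ l) (Γ μ), hself l hl, hself μ hμ,
          hΓΓ l μ hl hμ, hΓΓ μ l hμ hl, if_neg h1, if_pos h2, if_neg (Ne.symm h1),
          if_pos (show μ = l⁻¹ from MonoidHom.ext fun x => by
            rw [MonoidHom.inv_apply, h2, MonoidHom.inv_apply, inv_inv])]
        norm_num
      have h3 := sub_eq_zero.1 (eq_zero_of_classInner_self hsub)
      have h4 := haeq l
      rw [h3, haeq μ] at h4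
      exact_mod_cast h4
    have hlμ : classInner (Γ l) (Γ μ) = 2 := by rw [hΓΓ l μ hl hμ, if_neg h1, if_neg h2]; norm_num
    have hRlμ : classInner (R l) (R μ) = 1 - (a l : ℂ) * a μ := by rw [hRR l μ hl hμ, hlμ]; ring
    rcases hsq μ hμ with h0 | h0
    · -- otherwise a second character of degree `p`
      exfalso
      have hRμ : classInner (R μ) (R μ) = 2 := by rw [hRR μ μ hμ hμ, hself μ hμ, h0]; norm_num
      rw [h0, Int.cast_zero, mul_zero, sub_zero] at hRlμ
      have hRμl : classInner (R μ) (R l) = 1 := by rw [← classInner_conj_symm, hRlμ, map_one]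
      have hC : classInner (R μ - R l) (R μ - R l) = 1 := by
        rw [classInner_sub_left (R μ) (R l), classInner_sub_right (R μ) (R μ) (R l),
          classInner_sub_right (R l) (R μ) (R l), hRμ, hRl, hRlμ, hRμl]
        norm_num
      obtain ⟨t, θ, ht, hθ⟩ := exists_signed_irr_of_norm_one ((hRgen μ).sub (hRgen l)) hC
      have hC1 : (R μ - R l) 1 = (a l : ℂ) * p := by
        rw [Pi.sub_apply, hRl1]
        simp [hR, hΓ1, h0]
      rw [hθ, Pi.smul_apply, smul_eq_mul] at hC1
      obtain ⟨d, -, hd⟩ := θ.2.exists_degree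
      rw [hd] at hC1
      have hC2 : t * (d : ℤ) = a l * (p : ℤ) := by exact_mod_cast hC1
      have hdp : d = p := by
        rcases hε with h | h <;> rcases ht with h' | h' <;> rw [h, h'] at hC2 <;> omega
      have hθχ : θ = χp := hun θ (by simp [hd, hdp])
      have horth : classInner (R μ - R l) (χp : G → ℂ) = 0 := by
        simp only [hR, classInner_sub_left, classInner_smul_left, haeq, classInner_irr_self χp.2, mul_one,
          classInner_irr_ne isIrrCharacter_one χp.2 hone, h0, Int.cast_zero]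
        ring
      rw [hθ, classInner_smul_left, hθχ, classInner_irr_self χp.2, mul_one] at horth
      rcases ht with h' | h' <;> simp [h'] at horth
    · have hRμ : classInner (R μ) (R μ) = 1 := by
        rw [hRR μ μ hμ hμ, hself μ hμ, ← Int.cast_mul,
          show a μ * a μ = 1 by rcases h0 with h | h <;> simp [h]]
        norm_num
      obtain ⟨t, θ, ht, hθ⟩ := exists_signed_irr_of_norm_one (hRgen μ) hRμ
      rw [hψ, hθ, classInner_smul_left, classInner_smul_right, map_intCast, classInner_irr ψ.2 θ.2] at hRlμ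
      by_contra hne
      have hprod : a l * a μ = -1 := by
        rcases hε with h | h <;> rcases h0 with h' | h' <;> simp_all
      rw [← Int.cast_mul (a l), hprod] at hRlμ
      rcases hs with h | h <;> rcases ht with h' | h' <;> rw [h, h'] at hRlμ <;> split_ifs at hRlμ <;>
        norm_num at hRlμ
  obtain ⟨hp1, hval⟩ := eq_of_equal_inner hc hfcf (m := classInner f (fun _ => 1)) (ε := (a l : ℂ)) rfl
    fun μ hμ => by rw [hfa, hall μ hμ]
  obtain ⟨n, hn⟩ := (χp.2.isCharacter.comp E.subtype).exists_nat_classInner isCharacter_one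
  change classInner f (fun _ => 1) = (n : ℂ) at hn
  rw [hn, show f 1 = (p : ℂ) by simp [hf, hχp]] at hp1
  have hp2 : (p : ℤ) = a l + (e : ℤ) * ((n : ℤ) - a l) := by exact_mod_cast hp1
  have hone' : a l = 1 := by
    refine hε.resolve_right fun h => ?_
    rw [h] at hp2
    have h1 : ((p : ℤ)) % (e : ℤ) = ((1 : ℕ) : ℤ) := by rw [← hmod]; push_cast; rfl
    rw [hp2, Int.add_mul_emod_self_left] at h1
    have h2 : (-1 : ℤ) % (e : ℤ) = (e : ℤ) - 1 := by
      rw [← Int.add_emod_right, Int.emod_eq_of_lt (by omega) (by omega)]; ring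
    omega
  have hsneg : s = -1 := by
    obtain ⟨d, -, hd⟩ := ψ.2.exists_degree
    have h1 := hRl1
    rw [hψ, Pi.smul_apply, smul_eq_mul, hd, hone', Int.cast_one, one_mul] at h1
    have h2 : s * (d : ℤ) = -1 - (p : ℤ) := by exact_mod_cast h1
    rcases hs with h | h
    · rw [h] at h2; omega
    · exact h
  have hψeq : ∀ g, (ψ : G → ℂ) g = 1 + (χp : G → ℂ) g - Γ l g := by
    intro g
    have := congrFun hψ g
    simp only [hR, hsneg, hone', Pi.sub_apply, Pi.smul_apply, smul_eq_mul, Int.cast_neg, Int.cast_one,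
      one_mul, neg_mul] at this
    rw [← neg_eq_iff_eq_neg.2 this]; ring
  refine ⟨ψ, ?_, ?_, l, hl, fun x hx => ?_⟩
  · rw [hψeq, hΓ1, hχp]; push_cast; ring
  · intro g
    have hχr : conj ((χp : G → ℂ) g) = (χp : G → ℂ) g := by
      have h1 : (⟨_, isIrrCharacter_conjFn χp.2⟩ : IrrCharacter G) = χp := hun _ (by simp [hχp])
      exact congrFun (congrArg Subtype.val h1) g
    have hΓr : conj (Γ l g) = Γ l g := by
      have hsub : classInner (Γ l - Γ l⁻¹) (Γ l - Γ l⁻¹) = 0 := by
        have hli : l⁻¹ ≠ 1 := fun h => hl (MonoidHom.ext fun x => inv_eq_one.1 (DFunLike.congr_fun h x))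
        rw [classInner_sub_left (Γ l) (Γ l⁻¹), classInner_sub_right (Γ l) (Γ l) (Γ l⁻¹),
          classInner_sub_right (Γ l⁻¹) (Γ l) (Γ l⁻¹), hself l hl, hself _ hli,
          hΓΓ l _ hl hli, hΓΓ _ l hli hl, if_neg (hinv l hl),
          if_pos (show l = l⁻¹⁻¹ from MonoidHom.ext fun x => by simp),
          if_neg (Ne.symm (hinv l hl)), if_pos rfl]
        norm_num
      have h3 := sub_eq_zero.1 (eq_zero_of_classInner_self hsub)
      conv_rhs => rw [h3]
      show conj (indFun E _ g) = indFun E _ g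
      simp only [indFun, map_mul, map_sum, map_inv₀, map_natCast]
      congr 1
      refine Finset.sum_congr rfl fun x _ => ?_
      by_cases hm : x⁻¹ * g * x ∈ E
      · rw [extendByZero_of_mem E _ hm, extendByZero_of_mem E _ hm, map_sub, map_one]
        congr 1
        rw [MonoidHom.inv_apply, Units.val_inv_eq_inv_val]
        refine (Complex.inv_eq_conj ?_).symm
        refine norm_eq_one_of_pow_orderOf (g := (⟨x⁻¹ * g * x, hm⟩ : E)) ?_
        rw [← Units.val_pow_eq_pow_val, ← map_pow, pow_orderOf_eq_one, map_one, Units.val_one]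
      · rw [extendByZero_of_notMem E _ hm, extendByZero_of_notMem E _ hm, map_zero]
    rw [hψeq, map_sub, map_add, map_one, hχr, hΓr]
  · rw [hψeq, hres, show (χp : G → ℂ) x = 1 by
      have := hval x hx
      simpa [hf, hone'] using this]
    ring

end Cfsg.Lib.UniquePDegree
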