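import Cfsg.Agent.Lib.HalfDeg.Reduction
import Cfsg.Agent.Lib.Char.Orthogonality
import Mathlib.RepresentationTheory.Invariants

/-!
# Reduction of an irreducible character modulo `p`

Traces are reduced, sums over subgroups on which the character has average zero vanish, and a real
character gives a nonzero invariant bilinear form.
-/

set_option autoImplicit false
set_option linter.unusedSectionVars false
set_option linter.style.haveILetI false

namespace Cfsg.Lib.UniquePDegree

open Cfsg Matrix
open scoped ComplexConjugate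

variable {p : ℕ} [hp : Fact p.Prime] {G : Type*} [Group G] [Fintype G]

/-- The reduction of an irreducible character. -/
theorem exists_reduction {χ : G → ℂ} (hχ : IsIrrCharacter G χ) (hreal : ∀ g, conj (χ g) = χ g)
    {n : ℕ} (hn : χ 1 = n) :
    ∃ (V : ValuationSubring ℂ) (k : Type) (_ : Field k) (_ : CharP k p) (_ : IsAlgClosed k)
      (φ : V →+* k) (ρ : G →* Matrix (Fin n) (Fin n) k),
      (∀ g, ∃ a : V, (a : ℂ) = χ g ∧ (ρ g).trace = φ a) ∧
      (∀ (H : Subgroup G) [Fintype H], (∑ h : H, χ h) = 0 → ∑ h : H, ρ (h : G) = 0) ∧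
      ∃ B : Matrix (Fin n) (Fin n) k, B ≠ 0 ∧ ∀ g, (ρ g)ᵀ * B * ρ g = B := by
  classical
  obtain ⟨m, ρ, hirr, hchar⟩ := hχ
  have hmn : m = n := by
    have h1 : χ 1 = (m : ℂ) := by rw [← hchar, Representation.char_one]; simp
    exact_mod_cast h1.symm.trans hn
  subst hmn
  obtain ⟨V, hV⟩ := Cfsg.Lib.Block.exists_valuationSubring_natCast p
  let k0 := IsLocalRing.ResidueField V
  haveI : CharP k0 p := by
    have hpm : (p : V) ∈ IsLocalRing.maximalIdeal V := by
      rw [← ValuationSubring.coe_mem_nonunits_iff]
      simpa using hV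
    refine (CharP.charP_iff_prime_eq_zero hp.out).mpr ?_
    rw [← map_natCast (IsLocalRing.residue V), IsLocalRing.residue_eq_zero_iff]
    exact hpm
  haveI : CharP (AlgebraicClosure k0) p := charP_of_injective_algebraMap (algebraMap k0 _).injective p
  let s : Finset (Fin m → ℂ) := Finset.univ.image fun x : G × Fin m => ρ x.1 (Pi.single x.2 1)
  have hs : Submodule.span ℂ (s : Set (Fin m → ℂ)) = ⊤ := by
    rw [eq_top_iff, ← (Pi.basisFun ℂ (Fin m)).span_eq, Submodule.span_le]
    rintro _ ⟨i, rfl⟩
    refine Submodule.subset_span (Finset.mem_image.2 ⟨(1, i), Finset.mem_univ _, ?_⟩)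
    simp
  obtain ⟨b', hb'L, hb'V⟩ := Cfsg.Lib.HalfDeg.exists_lattice_basis V s hs
  let b := b'.reindex (finCongr (by simp : Module.finrank ℂ (Fin m → ℂ) = m))
  have hLinv : ∀ g, ∀ w ∈ Submodule.span V (s : Set (Fin m → ℂ)),
      ρ g w ∈ Submodule.span V (s : Set (Fin m → ℂ)) := by
    intro g w hw
    induction hw using Submodule.span_induction with
    | mem x hx =>
      obtain ⟨⟨h, i⟩, -, rfl⟩ := Finset.mem_image.1 hx
      refine Submodule.subset_span (Finset.mem_image.2 ⟨(g * h, i), Finset.mem_univ _, ?_⟩)
      rw [map_mul]; rfl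
    | zero => simp
    | add x y _ _ hx hy => rw [map_add]; exact add_mem hx hy
    | smul c x _ hx =>
      rw [show c • x = (c : ℂ) • x from rfl, map_smul]
      exact Submodule.smul_mem _ c hx
  let A : G →* Matrix (Fin m) (Fin m) ℂ :=
    (LinearMap.toMatrixAlgEquiv b : _ ≃ₐ[ℂ] Matrix (Fin m) (Fin m) ℂ).toMonoidHom.comp ρ
  have hentry : ∀ g i j, A g i j ∈ V := by
    intro g i j
    show LinearMap.toMatrixAlgEquiv b (ρ g) i j ∈ V
    rw [LinearMap.toMatrixAlgEquiv_apply, Module.Basis.repr_reindex_apply, Module.Basis.reindex_apply]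
    exact hb'V _ (hLinv g _ (hb'L _)) _
  let R : G →* Matrix (Fin m) (Fin m) V :=
    { toFun := fun g => Matrix.of fun i j => (⟨_, hentry g i j⟩ : V)
      map_one' := by
        ext i j
        show A 1 i j = (((1 : Matrix (Fin m) (Fin m) V) i j : V) : ℂ)
        rw [map_one, Matrix.one_apply, Matrix.one_apply]
        split <;> simp
      map_mul' := fun g h => by
        ext i j
        show A (g * h) i j = _
        rw [map_mul]
        simp [Matrix.mul_apply] }
  let φ : V →+* AlgebraicClosure k0 := (algebraMap k0 (AlgebraicClosure k0)).comp (IsLocalRing.residue V)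
  let R' : G →* Matrix (Fin m) (Fin m) (AlgebraicClosure k0) :=
    (φ.mapMatrix : Matrix (Fin m) (Fin m) V →+* _).toMonoidHom.comp R
  have htr : ∀ g, (A g).trace = χ g := by
    intro g
    rw [← hchar]
    show (LinearMap.toMatrixAlgEquiv b (ρ g)).trace = LinearMap.trace ℂ _ (ρ g)
    rw [LinearMap.trace_eq_matrix_trace ℂ b]
    rfl
  refine ⟨V, AlgebraicClosure k0, inferInstance, inferInstance, inferInstance, φ, R',
    fun g => ⟨(R g).trace, ?_, ?_⟩, ?_, ?_⟩
  · rw [← htr]
    simp [R, Matrix.trace]
  · simp [R', Matrix.trace]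
  · intro H _ hH
    have hzero : ∑ h : H, A (h : G) = 0 := by
      haveI : Invertible (Fintype.card H : ℂ) :=
        invertibleOfNonzero (Nat.cast_ne_zero.2 Fintype.card_pos.ne')
      let σ : Representation ℂ H (Fin m → ℂ) := ρ.comp H.subtype
      have hinv : σ.invariants = ⊥ := by
        rw [← Submodule.finrank_eq_zero (R := ℂ), ← Nat.cast_eq_zero (R := ℂ),
          ← σ.isProj_averageMap.trace]
        have h1 : LinearMap.trace ℂ _ σ.averageMap = (Fintype.card H : ℂ)⁻¹ * ∑ h : H, χ h := by
          simp [Representation.averageMap, GroupAlgebra.average, map_sum, ← hchar, Representation.character, σ]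
        rw [h1, hH, mul_zero]
      show ∑ h : H, LinearMap.toMatrixAlgEquiv b (ρ (h : G)) = 0
      rw [← map_sum]
      have h0 : ∑ h : H, ρ (h : G) = 0 := LinearMap.ext fun v => by
        have hmem : (∑ h : H, ρ (h : G)) v ∈ σ.invariants := fun x => by
          rw [LinearMap.sum_apply, map_sum]
          refine Fintype.sum_equiv (Equiv.mulLeft x) _ _ fun h => ?_
          show ρ (x : G) (ρ (h : G) v) = ρ ((x : G) * (h : G)) v
          rw [map_mul]; rfl
        rw [hinv, Submodule.mem_bot] at hmem
        exact hmem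
      rw [h0, map_zero]
    ext i j
    have := congrFun (congrFun hzero i) j
    simp only [Matrix.sum_apply, Matrix.zero_apply] at this
    simp only [R', Matrix.sum_apply, MonoidHom.comp_apply, RingHom.toMonoidHom_eq_coe,
      MonoidHom.coe_coe, RingHom.mapMatrix_apply, Matrix.map_apply, Matrix.zero_apply]
    rw [← map_sum, show (∑ h : H, R (h : G) i j) = 0 from Subtype.ext (by simpa [R] using this), map_zero]
  · -- an invariant bilinear form
    let B0 : Fin m → Fin m → Matrix (Fin m) (Fin m) ℂ :=
      fun a c => ∑ g : G, Matrix.of fun i j => A g a i * A g c j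
    have hB0 : ∀ a c g, (A g)ᵀ * B0 a c * A g = B0 a c := by
      intro a c g
      simp only [B0, Finset.mul_sum, Finset.sum_mul]
      refine Fintype.sum_equiv (Equiv.mulRight g) _ _ fun h => ?_
      ext i j
      simp only [Equiv.coe_mulRight, map_mul, Matrix.mul_apply, Matrix.of_apply, Matrix.transpose_apply,
        Finset.sum_mul, Finset.mul_sum]
      exact Finset.sum_congr rfl fun x _ => Finset.sum_congr rfl fun y _ => by ring
    obtain ⟨a, c, hac⟩ : ∃ a c, B0 a c ≠ 0 := by
      by_contra hcon
      push Not at hcon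
      have h1 : ∑ g : G, χ g * χ g = 0 := by
        calc ∑ g : G, χ g * χ g = ∑ g : G, ∑ a, ∑ c, A g a a * A g c c :=
              Finset.sum_congr rfl fun g _ => by rw [← htr, Matrix.trace, Finset.sum_mul_sum]; rfl
          _ = ∑ a, ∑ c, B0 a c a c := by
              rw [Finset.sum_comm]
              refine Finset.sum_congr rfl fun a _ => ?_
              rw [Finset.sum_comm]
              exact Finset.sum_congr rfl fun c _ => by simp [B0, Matrix.sum_apply]
          _ = 0 := Finset.sum_eq_zero fun a _ => Finset.sum_eq_zero fun c _ => by rw [hcon]; rfl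
      have h2 := Cfsg.Lib.Char.classInner_irr_self (G := G) ⟨m, ρ, hirr, hchar⟩
      rw [classInner, Finset.sum_congr rfl fun g _ => by rw [hreal], h1, mul_zero] at h2
      exact zero_ne_one h2
    have hmem : ∀ i j, B0 a c i j ∈ V := fun i j => by
      simp only [B0, Matrix.sum_apply, Matrix.of_apply]
      exact V.toSubring.sum_mem fun g _ => V.mul_mem _ _ (hentry _ _ _) (hentry _ _ _)
    obtain ⟨x, -, hmax⟩ := Finset.exists_max_image (Finset.univ : Finset (Fin m × Fin m))
      (fun x => V.valuation (B0 a c x.1 x.2)) (by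
        obtain ⟨i, j, -⟩ : ∃ i j, B0 a c i j ≠ 0 := by
          by_contra h
          push Not at h
          exact hac (Matrix.ext h)
        exact ⟨(i, j), Finset.mem_univ _⟩)
    set β := B0 a c x.1 x.2 with hβ
    have hβ0 : β ≠ 0 := fun h => hac (Matrix.ext fun i j => by
      have := hmax (i, j) (Finset.mem_univ _)
      rw [h, map_zero, le_zero_iff, map_eq_zero] at this
      exact this)
    have hint : ∀ i j, B0 a c i j / β ∈ V := fun i j => by
      refine (V.valuation_le_one_iff _).1 ?_
      rw [map_div₀, div_le_one₀ ((Valuation.pos_iff _).2 hβ0)]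
      exact hmax (i, j) (Finset.mem_univ _)
    let BV : Matrix (Fin m) (Fin m) V := Matrix.of fun i j => ⟨_, hint i j⟩
    refine ⟨φ.mapMatrix BV, fun h => ?_, fun g => ?_⟩
    · have h1 := congrFun (congrFun h x.1) x.2
      rw [RingHom.mapMatrix_apply, Matrix.map_apply, Matrix.zero_apply,
        show BV x.1 x.2 = 1 from Subtype.ext (div_self hβ0), map_one] at h1
      exact one_ne_zero h1
    · have hV' : (R g)ᵀ * BV * R g = BV := by
        ext i j
        have h1 := congrFun (congrFun (hB0 a c g) i) j
        simp only [Matrix.mul_apply, Matrix.transpose_apply] at h1 ⊢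
        push_cast
        simp only [R, BV, MonoidHom.coe_mk, OneHom.coe_mk, Matrix.of_apply]
        rw [← h1, Finset.sum_div]
        refine Finset.sum_congr rfl fun y _ => ?_
        rw [Finset.sum_mul, Finset.sum_mul, Finset.sum_div]
        exact Finset.sum_congr rfl fun z _ => by ring
      have := congrArg φ.mapMatrix hV'
      rw [map_mul, map_mul] at this
      simpa [R', Matrix.transpose_map] using this

end Cfsg.Lib.UniquePDegree
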