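import Cfsg.Agent.Lib.Perm.UniquePDegree.Setup
import Cfsg.Agent.Lib.Perm.UniquePDegree.Reduction
import Cfsg.Agent.Lib.Perm.UniquePDegree.Contradiction
import Cfsg.Agent.Lib.Perm.UniquePDegree.OddChar
import Cfsg.Agent.Lib.Char.Constituents
import Cfsg.Agent.Lib.HalfDeg.Main
import Mathlib.GroupTheory.Transfer

/-!
# The case of a complement of odd order
-/

set_option autoImplicit false
set_option linter.unusedSectionVars false
set_option linter.style.haveILetI false
set_option maxHeartbeats 1000000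

namespace Cfsg.Lib.UniquePDegree

open Cfsg Cfsg.Lib.Char
open scoped Matrix

universe u

variable {G : Type u} [Group G] [Finite G] [IsSimpleGroup G] {p : ℕ} [hp : Fact p.Prime]
  (C : Config G p)

theorem Config.w_sq : C.w * C.w ∈ Subgroup.zpowers C.y := by
  rcases C.hN2 C.w C.hwN with h | h
  · exact absurd h C.hwE
  · exact h

theorem Config.comm_of_mem {a b : G} (ha : a ∈ Subgroup.zpowers C.y) (hb : b ∈ Subgroup.zpowers C.y) :
    a * b = b * a := by
  obtain ⟨i, rfl⟩ := Subgroup.mem_zpowers_iff.1 ha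
  obtain ⟨j, rfl⟩ := Subgroup.mem_zpowers_iff.1 hb
  exact (Commute.zpow_zpow (Commute.refl _) i j).eq

theorem Config.conj_mem {x : G} (hx : x ∈ Subgroup.zpowers C.y) : C.w * x * C.w⁻¹ ∈ Subgroup.zpowers C.y :=
  (Subgroup.mem_normalizer_iff.1 C.hwN x).1 hx

/-- For odd complement the outside element centralizes nothing. -/
theorem Config.fixed_eq_one (hodd : Odd (orderOf C.y)) (hnab : ¬ IsMulCommutative G) {x : G}
    (hx : x ∈ Subgroup.zpowers C.y) (hfix : C.w * x * C.w⁻¹ = x) : x = 1 := by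
  classical
  by_contra hx1
  set y := C.y with hy
  set e := orderOf y with he
  have he0 : 0 < e := orderOf_pos y
  obtain ⟨r, hr, hrx⟩ := Nat.exists_prime_and_dvd (fun h => hx1 (orderOf_eq_one_iff.1 h) : orderOf x ≠ 1)
  haveI : Fact r.Prime := ⟨hr⟩
  set x' := x ^ (orderOf x / r) with hx'
  have hx'o : orderOf x' = r := orderOf_pow_orderOf_div (orderOf_pos x).ne' hrx
  have hx'E : x' ∈ Subgroup.zpowers y := Subgroup.pow_mem _ hx _
  have hx'fix : C.w * x' * C.w⁻¹ = x' := by rw [hx', ← conj_pow, hfix]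
  have hre : r ∣ e := by
    rw [← hx'o, he, ← Nat.card_zpowers y]
    exact Subgroup.orderOf_dvd_natCard _ hx'E
  have hrodd : Odd r := Odd.of_dvd_nat hodd hre
  set q := r ^ e.factorization r with hq
  have hqe : q ∣ e := Nat.ordProj_dvd e r
  have hk : 1 ≤ e.factorization r := (hr.dvd_iff_one_le_factorization he0.ne').1 hre
  set z := y ^ (e / q) with hz
  have hzo : orderOf z = q := orderOf_pow_orderOf_div he0.ne' hqe
  have hzE : z ∈ Subgroup.zpowers y := Subgroup.pow_mem _ (Subgroup.mem_zpowers y) _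
  set R := Subgroup.zpowers z with hR
  have hRE : R ≤ Subgroup.zpowers y := Subgroup.zpowers_le.2 hzE
  have hRmem : ∀ a ∈ Subgroup.zpowers y, a ^ q = 1 → a ∈ R := by
    intro a ha haq
    obtain ⟨i, rfl : y ^ i = a⟩ := mem_powers_iff_mem_zpowers.2 ha
    rw [← pow_mul, ← orderOf_dvd_iff_pow_eq_one, ← he] at haq
    have h1 : e / q ∣ i := by
      refine Nat.dvd_of_mul_dvd_mul_right (pow_pos hr.pos _) (?_ : e / q * q ∣ i * q)
      rwa [Nat.div_mul_cancel hqe]
    obtain ⟨j, rfl⟩ := h1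
    rw [pow_mul]
    exact Subgroup.pow_mem _ (Subgroup.mem_zpowers _) j
  have hz1 : z ≠ 1 := fun h => by
    rw [h, orderOf_one] at hzo
    exact (Nat.one_lt_pow (by omega : e.factorization r ≠ 0) hr.one_lt).ne hzo
  have hNR : ∀ g ∈ Subgroup.normalizer (R : Set G), g ∈ Subgroup.normalizer (Subgroup.zpowers y : Set G) := by
    intro g hg
    refine C.hTI g z hzE hz1 ?_
    have h1 := (Subgroup.mem_normalizer_iff.1 (inv_mem hg) z).1 (Subgroup.mem_zpowers z)
    rw [inv_inv] at h1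
    exact hRE h1
  have hRp : IsPGroup r R := IsPGroup.of_card (n := e.factorization r) (by rw [hR, Nat.card_zpowers, hzo])
  obtain ⟨S, hS⟩ := hRp.exists_le_sylow
  have hSR : (S : Subgroup G) = R := by
    by_contra hne
    have hlt : R.subgroupOf S < ⊤ := lt_top_iff_ne_top.2 fun h =>
      hne (le_antisymm (Subgroup.subgroupOf_eq_top.1 h) hS)
    haveI : Group.IsNilpotent (S : Subgroup G) := S.isPGroup'.isNilpotent
    obtain ⟨⟨s, hsS⟩, hsn, hsR⟩ := SetLike.exists_of_lt (Group.normalizerCondition_of_isNilpotent _ hlt)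
    have hsN : s ∈ Subgroup.normalizer (R : Set G) := by
      rw [Subgroup.mem_normalizer_iff]
      intro a
      have h2 := Subgroup.mem_normalizer_iff.1 hsn
      constructor
      · intro ha
        have := (h2 ⟨a, hS ha⟩).1 ha
        exact this
      · intro ha
        have haS : a ∈ (S : Subgroup G) := by
          have h3 := (S : Subgroup G).mul_mem ((S : Subgroup G).mul_mem ((S : Subgroup G).inv_mem hsS) (hS ha)) hsS
          simpa [mul_assoc] using h3
        exact (h2 ⟨a, haS⟩).2 ha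
    obtain ⟨m, hm⟩ := S.isPGroup' ⟨s, hsS⟩
    have hsm : s ^ r ^ m = 1 := congrArg Subtype.val hm
    have hsE : s ∈ Subgroup.zpowers y := by
      by_contra hsE
      have hsw := (C.hN2 s (hNR s hsN)).resolve_left hsE
      have hs2 : s * s ∈ Subgroup.zpowers y := by
        rcases C.hN2 (s * s) (mul_mem (hNR s hsN) (hNR s hsN)) with h | h
        · exact h
        · exfalso
          rw [mul_assoc] at h
          exact hsE ((Subgroup.mul_mem_cancel_right _ hsw).1 h)
      obtain ⟨j, hj⟩ := hrodd.pow (n := m)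
      rw [hj, pow_succ, pow_mul, pow_two] at hsm
      exact hsE ((Subgroup.mul_mem_cancel_left _ (Subgroup.pow_mem _ hs2 j)).1 (hsm ▸ Subgroup.one_mem _))
    refine hsR (hRmem s hsE ?_)
    obtain ⟨i, -, hi⟩ := (Nat.dvd_prime_pow hr).1 (orderOf_dvd_of_pow_eq_one hsm)
    refine orderOf_dvd_iff_pow_eq_one.1 ?_
    rw [hi, hq]
    refine pow_dvd_pow r ((hr.pow_dvd_iff_le_factorization he0.ne').1 ?_)
    rw [← hi, he, ← Nat.card_zpowers y]
    exact Subgroup.orderOf_dvd_natCard _ hsE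
  -- `w` centralizes `R`
  have hzfix : C.w * z * C.w⁻¹ = z := by
    obtain ⟨t, ht : z ^ t = C.w * z * C.w⁻¹⟩ := mem_powers_iff_mem_zpowers.2 (hRmem _ (C.conj_mem hzE) (by
      rw [conj_pow, ← hzo, pow_orderOf_eq_one]; simp))
    have ht2 : t * t ≡ 1 [MOD q] := by
      rw [← hzo, ← pow_eq_pow_iff_modEq, pow_one, pow_mul, ht, conj_pow, ht]
      have h1 : C.w * C.w * z = z * (C.w * C.w) := C.comm_of_mem C.w_sq hzE
      rw [show C.w * (C.w * z * C.w⁻¹) * C.w⁻¹ = C.w * C.w * z * (C.w * C.w)⁻¹ by group, h1, mul_inv_cancel_right]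
    obtain ⟨i, hi : z ^ i = x'⟩ := mem_powers_iff_mem_zpowers.2 (hRmem x' hx'E (by
      rw [← orderOf_dvd_iff_pow_eq_one, hx'o, hq]
      exact dvd_pow_self r (by omega)))
    have h1 : x' ^ t = x' := by
      rw [← hi, ← pow_mul, mul_comm, pow_mul, ht, conj_pow, hi, hx'fix]
    have htr : t ≡ 1 [MOD r] := by
      rw [← hx'o, ← pow_eq_pow_iff_modEq, h1, pow_one]
    have htq : t ≡ 1 [MOD q] := by
      have hcop : Nat.Coprime q (t + 1) := by
        refine Nat.Coprime.pow_left _ (hr.coprime_iff_not_dvd.2 fun hd => ?_)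
        have h2 : t + 1 ≡ 1 + 1 [MOD r] := htr.add_right 1
        have h3 : r ∣ 2 := Nat.modEq_zero_iff_dvd.1 (h2.symm.trans (Nat.modEq_zero_iff_dvd.2 hd))
        have h4 := (Nat.prime_dvd_prime_iff_eq hr Nat.prime_two).1 h3
        rw [h4] at hrodd
        exact absurd hrodd (by decide)
      have hzi : (q : ℤ) ∣ ((t : ℤ) + 1) * ((t : ℤ) - 1) := by
        have h5 := Nat.modEq_iff_dvd.1 ht2.symm
        push_cast at h5
        rw [show ((t : ℤ) + 1) * ((t : ℤ) - 1) = (t : ℤ) * t - 1 by ring]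
        exact h5
      have hcopz : IsCoprime (q : ℤ) ((t : ℤ) + 1) := by exact_mod_cast Nat.isCoprime_iff_coprime.2 hcop
      have h6 := hcopz.dvd_of_dvd_mul_left hzi
      exact (Nat.modEq_iff_dvd.2 (by push_cast; exact h6)).symm
    rw [← ht]
    conv_rhs => rw [← pow_one z]
    exact pow_eq_pow_iff_modEq.2 (hzo.symm ▸ htq)
  have hcent : Subgroup.normalizer ((S : Subgroup G) : Set G) ≤ Subgroup.centralizer ((S : Subgroup G) : Set G) := by
    rw [hSR]
    intro g hg
    rw [Subgroup.mem_centralizer_iff]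
    intro a ha
    obtain ⟨i, rfl⟩ := Subgroup.mem_zpowers_iff.1 ha
    have hgz : g * z = z * g := by
      rcases C.hN2 g (hNR g hg) with h | h
      · exact C.comm_of_mem h hzE
      · have hwz : Commute C.w z := mul_inv_eq_iff_eq_mul.1 hzfix
        have h7 : Commute (g * C.w) z := C.comm_of_mem h hzE
        have := h7.mul_left hwz.inv_left
        rwa [mul_inv_cancel_right] at this
    exact (Commute.zpow_right hgz i).eq.symm
  have hK := MonoidHom.ker_transferSylow_isComplement' S hcent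
  rcases (inferInstance : (MonoidHom.transferSylow S hcent).ker.Normal).eq_bot_or_eq_top with h | h
  · rw [h, Subgroup.isComplement'_bot_left] at hK
    rw [hSR] at hK
    refine hnab ⟨⟨fun a b => ?_⟩⟩
    have ha : a ∈ Subgroup.zpowers y := hRE (hK ▸ Subgroup.mem_top a)
    have hb : b ∈ Subgroup.zpowers y := hRE (hK ▸ Subgroup.mem_top b)
    exact C.comm_of_mem ha hb
  · rw [h, Subgroup.isComplement'_top_left] at hK
    rw [hSR, hR, Subgroup.zpowers_eq_bot] at hK
    exact hz1 hK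

/-- For odd complement the outside element inverts it. -/
theorem Config.inverts (hodd : Odd (orderOf C.y)) (hnab : ¬ IsMulCommutative G) :
    ∀ x ∈ Subgroup.zpowers C.y, C.w * x * C.w⁻¹ = x⁻¹ := by
  intro x hx
  have h1 : x * (C.w * x * C.w⁻¹) = 1 := by
    refine C.fixed_eq_one hodd hnab (mul_mem hx (C.conj_mem hx)) ?_
    have hc : C.w * C.w * x = x * (C.w * C.w) := C.comm_of_mem C.w_sq hx
    rw [show C.w * (x * (C.w * x * C.w⁻¹)) * C.w⁻¹ = (C.w * x * C.w⁻¹) * (C.w * C.w * x * (C.w * C.w)⁻¹) by group,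
      hc, mul_inv_cancel_right, C.comm_of_mem (C.conj_mem hx) hx]
  exact (eq_inv_of_mul_eq_one_right h1)

/-- The normalizer of `⟨u⟩` fixes only its own coset. -/
theorem Config.fix (g : G) (h : g⁻¹ * C.u * g ∈ Subgroup.normalizer (Subgroup.zpowers C.u : Set G)) :
    g ∈ Subgroup.normalizer (Subgroup.zpowers C.u : Set G) := by
  classical
  obtain ⟨a, b, hab⟩ := C.hNP _ h
  set u := C.u
  set y := C.y
  have hyN : y ∈ Subgroup.normalizer (Subgroup.zpowers u : Set G) := by
    refine Subgroup.mem_normalizer_fintype ?_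
    intro n (hn : n ∈ Subgroup.zpowers _)
    obtain ⟨i, rfl⟩ := Subgroup.mem_zpowers_iff.1 hn
    rw [← conj_zpow, C.hrel]
    exact Subgroup.zpow_mem _ (Subgroup.pow_mem _ (Subgroup.mem_zpowers u) _) i
  have hpow : ∀ n : ℕ, ∃ A : G, A ∈ Subgroup.zpowers u ∧ (u ^ a * y ^ b) ^ n = A * y ^ (b * n) := by
    intro n
    induction n with
    | zero => exact ⟨1, one_mem _, by simp⟩
    | succ n ih =>
      obtain ⟨A, hA, hAe⟩ := ih
      refine ⟨A * (y ^ (b * n) * u ^ a * (y ^ (b * n))⁻¹),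
        mul_mem hA ((Subgroup.mem_normalizer_iff.1 (pow_mem hyN _) _).1 (Subgroup.pow_mem _ (Subgroup.mem_zpowers u) a)), ?_⟩
      rw [pow_succ, hAe, Nat.mul_succ, pow_add]
      group
  obtain ⟨A, hA, hAe⟩ := hpow p
  have hx : (g⁻¹ * u * g) ^ p = 1 := by
    have := conj_pow (i := p) (a := g⁻¹) (b := u)
    rw [inv_inv] at this
    rw [this, ← C.hu, pow_orderOf_eq_one]; simp
  rw [hab, hAe] at hx
  have hy : y ^ (b * p) ∈ Subgroup.zpowers u := by
    rw [eq_inv_of_mul_eq_one_right hx]; exact inv_mem hA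
  have hp' := hp.out
  have hcop : Nat.Coprime p (orderOf y) := by
    refine hp'.coprime_iff_not_dvd.2 fun hd => ?_
    have h7 := Nat.le_of_dvd (orderOf_pos y) hd
    have h8 : orderOf y ≤ p - 1 := Nat.le_of_dvd (by have := hp'.two_le; omega) C.hdvd
    have := hp'.two_le
    omega
  have hy1 : y ^ (b * p) = 1 := by
    have h1 := Subgroup.orderOf_dvd_natCard _ hy
    rw [Nat.card_zpowers, C.hu] at h1
    exact orderOf_eq_one_iff.1 (Nat.eq_one_of_dvd_coprimes hcop h1 (orderOf_pow_dvd _))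
  have hb : y ^ b = 1 := by
    rw [← orderOf_dvd_iff_pow_eq_one] at hy1 ⊢
    exact hcop.symm.dvd_of_dvd_mul_right hy1
  rw [hb, mul_one] at hab
  have hinv : g⁻¹ ∈ Subgroup.normalizer (Subgroup.zpowers u : Set G) := by
    refine Subgroup.mem_normalizer_fintype ?_
    intro n (hn : n ∈ Subgroup.zpowers _)
    obtain ⟨i, rfl⟩ := Subgroup.mem_zpowers_iff.1 hn
    rw [← conj_zpow, inv_inv, hab]
    exact Subgroup.zpow_mem _ (Subgroup.pow_mem _ (Subgroup.mem_zpowers u) _) i
  simpa using inv_mem hinv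

/-- A nontrivial representation with small blocks gives `PSL(2, p)`. -/
theorem Config.psl_of_small (hodd : Odd (orderOf C.y)) {k : Type*} [Field k] [CharP k p] [IsAlgClosed k]
    {M : Type*} [AddCommGroup M] [Module k M] [FiniteDimensional k M] (σ : G →* Module.End k M)
    (hσ : σ ≠ 1) (hnab : ¬ IsMulCommutative G) (hsmall : (σ C.u - 1) ^ ((p - 1) / 2) = 0) :
    Nonempty (G ≃* Matrix.ProjectiveSpecialLinearGroup (Fin 2) (ZMod p)) := by
  classical
  have hp5 := C.hp5
  have hinj : Function.Injective σ := by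
    rw [← MonoidHom.ker_eq_bot_iff]
    exact (σ.normal_ker.eq_bot_or_eq_top).resolve_right fun h => hσ (MonoidHom.ext fun g =>
      MonoidHom.mem_ker.1 (h ▸ Subgroup.mem_top g))
  have hup : C.u ^ p = 1 := orderOf_dvd_iff_pow_eq_one.1 (dvd_of_eq C.hu)
  have hu1 : C.u ≠ 1 := fun h => by
    have := C.hu; rw [h, orderOf_one] at this; omega
  have hnn : ¬ (Subgroup.zpowers C.u).Normal := by
    intro hn
    rcases hn.eq_bot_or_eq_top with h | h
    · exact hu1 (Subgroup.zpowers_eq_bot.1 h)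
    · refine hnab ⟨⟨fun a b => ?_⟩⟩
      obtain ⟨i, rfl⟩ := Subgroup.mem_zpowers_iff.1 (h ▸ Subgroup.mem_top a : a ∈ Subgroup.zpowers C.u)
      obtain ⟨j, rfl⟩ := Subgroup.mem_zpowers_iff.1 (h ▸ Subgroup.mem_top b : b ∈ Subgroup.zpowers C.u)
      exact (Commute.zpow_zpow (Commute.refl _) i j).eq
  have hdvd2 : 2 * ((p - 1) / 2) < p := by omega
  obtain ⟨ψ, hψu, hψk⟩ := Cfsg.Lib.HalfDeg.exists_toPGL (p := p) (k := k) (by omega) σ hinj hup hu1 C.hsq hnn
    hsmall hdvd2
  rcases Cfsg.Lib.HalfDeg.group_cases hp5 C.hsq hup ψ hψu hψk hnn with h | ⟨⟨e⟩, -⟩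
  · exfalso
    obtain ⟨g, hg⟩ := h (p - 1) (fun hd => by have := Nat.le_of_dvd (by omega) hd; omega)
    have hgN : g ∈ Subgroup.normalizer (Subgroup.zpowers C.u : Set G) := by
      refine Subgroup.mem_normalizer_fintype ?_
      intro n (hn : n ∈ Subgroup.zpowers _)
      obtain ⟨i, rfl⟩ := Subgroup.mem_zpowers_iff.1 hn
      rw [← conj_zpow, hg]
      exact Subgroup.zpow_mem _ (Subgroup.pow_mem _ (Subgroup.mem_zpowers _) _) i
    obtain ⟨a, b, rfl⟩ := C.hNP g hgN
    have hb : ∀ l : ℕ, C.y ^ l * C.u * (C.y ^ l)⁻¹ = C.u ^ (C.s ^ l) := by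
      intro l
      induction l with
      | zero => simp
      | succ n ih =>
        rw [pow_succ' C.y, mul_inv_rev, show C.y * C.y ^ n * C.u * ((C.y ^ n)⁻¹ * C.y⁻¹) =
          C.y * (C.y ^ n * C.u * (C.y ^ n)⁻¹) * C.y⁻¹ by group, ih, ← conj_pow, C.hrel, ← pow_mul, pow_succ' C.s]
    rw [mul_inv_rev, show C.u ^ a * C.y ^ b * C.u * ((C.y ^ b)⁻¹ * (C.u ^ a)⁻¹) =
      C.u ^ a * (C.y ^ b * C.u * (C.y ^ b)⁻¹) * (C.u ^ a)⁻¹ by group, hb,
      (Commute.pow_pow (Commute.refl C.u) a (C.s ^ b)).eq, mul_inv_cancel_right, pow_eq_pow_iff_modEq, C.hu] at hg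
    have h2 : C.s ^ (2 * b) ≡ 1 [MOD p] := by
      rw [two_mul, pow_add]
      refine (hg.mul hg).trans ?_
      rw [Nat.modEq_iff_dvd]
      obtain ⟨q, hq⟩ : ∃ q, p = q + 1 := ⟨p - 1, by omega⟩
      rw [hq, Nat.add_sub_cancel]
      exact ⟨1 - (q : ℤ), by push_cast; ring⟩
    have hbdvd : orderOf C.y ∣ b :=
      ((Nat.coprime_two_right.2 hodd).dvd_of_dvd_mul_left ((C.hsord _).1 h2))
    have h3 := ((C.hsord b).2 hbdvd).symm.trans hg
    rw [Nat.ModEq, Nat.mod_eq_of_lt (by omega), Nat.mod_eq_of_lt (by omega)] at h3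
    omega
  · have hker : ψ.ker = ⊥ := (ψ.normal_ker.eq_bot_or_eq_top).resolve_right fun h =>
      hψu (MonoidHom.mem_ker.1 (h ▸ Subgroup.mem_top C.u))
    exact ⟨(QuotientGroup.quotientBot.symm.trans (QuotientGroup.quotientMulEquivOfEq hker.symm)).trans e⟩

/-- The odd case. -/
theorem Config.psl_of_odd [Fintype G] (hodd : Odd (orderOf C.y)) (hnab : ¬ IsMulCommutative G)
    (huniq : ∃! χ : IrrCharacter G, (χ : G → ℂ) 1 = (p : ℂ)) (H : Subgroup G) (hH : H.index = p) :
    Nonempty (G ≃* Matrix.ProjectiveSpecialLinearGroup (Fin 2) (ZMod p)) := by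
  classical
  by_contra hno
  have hp5 := C.hp5
  set e := orderOf C.y with he
  have he2 := C.he2
  have he3 : 3 ≤ e := by obtain ⟨j, hj⟩ := hodd; omega
  set E := Subgroup.zpowers C.y with hE
  have hEc : Nat.card E = e := Nat.card_zpowers C.y
  have hpne : ¬ p ∣ e := fun hd => by
    have h7 := Nat.le_of_dvd (by omega) hd
    have h8 := Nat.le_of_dvd (by omega) C.hdvd
    omega
  obtain ⟨ψ, hψ1, hψr, l, hl, hψl⟩ := exists_psi p (by omega) E
    (fun a b => Subtype.ext (C.comm_of_mem a.2 b.2)) (hEc.symm ▸ hodd) (by omega)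
    (by
      rw [hEc]
      obtain ⟨c, hc⟩ := C.hdvd
      rw [← he] at hc
      rw [show p = 1 + e * c by omega, Nat.add_mul_mod_self_left, Nat.one_mod_eq_one.2 (by omega)])
    C.w (C.inverts hodd hnab) C.hN2 C.hwE C.hTI huniq
  haveI := Fintype.ofFinite H
  have havgψ : ∑ h : H, (ψ : G → ℂ) h = 0 := by
    by_contra hne
    have hind : IsCharacter G (indFun H (fun _ : H => (1 : ℂ))) := isCharacter_indFun H isCharacter_one
    have h1 : classInner (indFun H (fun _ : H => (1 : ℂ))) (ψ : G → ℂ) ≠ 0 := by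
      rw [classInner_indFun H _ ψ.2.isClassFunction]
      simp only [classInner, one_mul]
      refine mul_ne_zero (inv_ne_zero (Nat.cast_ne_zero.2 Nat.card_pos.ne')) ?_
      rw [← map_sum]
      exact fun h => hne (star_eq_zero.1 h)
    have h2 := degree_le_of_constituent ψ.2 hind h1
    rw [indFun_apply_one, hH, hψ1, mul_one] at h2
    norm_num at h2
  obtain ⟨V, k, _, _, _, φ, ρ, htr, havg, B, hB0, hB⟩ := exists_reduction (p := p) ψ.2 hψr hψ1
  let σ : G →* Module.End k (Fin (p + 1) → k) :=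
    (Matrix.toLinAlgEquiv' : Matrix (Fin (p + 1)) (Fin (p + 1)) k ≃ₐ[k] _).toMonoidHom.comp ρ
  -- the local data
  have hcop2 : Nat.Coprime e 2 := Nat.coprime_two_right.2 hodd
  let L : LocalData p G :=
    { u := C.u, y := C.y, w := C.w, s := C.s, e := e
      N := Subgroup.normalizer (Subgroup.zpowers C.u : Set G)
      hu := orderOf_dvd_iff_pow_eq_one.1 (dvd_of_eq C.hu)
      hy := pow_orderOf_eq_one C.y
      hodd := hodd
      he3 := he3
      hp5 := hp5
      hdvd := by
        refine hcop2.dvd_of_dvd_mul_left ?_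
        have h2 : p % 2 = 1 := Nat.odd_iff.1 (hp.out.odd_of_ne_two (by omega))
        rw [show 2 * ((p - 1) / 2) = p - 1 by omega]
        exact C.hdvd
      hrel := mul_inv_eq_iff_eq_mul.1 C.hrel
      hse := (C.hsord e).2 dvd_rfl
      hsord := fun m hm hme h => by
        have := Nat.le_of_dvd hm ((C.hsord m).1 h)
        omega
      hw := C.inverts hodd hnab _ (Subgroup.mem_zpowers C.y)
      huN := Subgroup.le_normalizer (Subgroup.mem_zpowers C.u)
      hN := C.hNP
      hfix := C.fix }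
  -- the trace at `y`
  set y' : E := ⟨C.y, Subgroup.mem_zpowers C.y⟩ with hy'
  set ζ : ℂ := (l y' : ℂ) with hζ
  have hly : ζ ^ e = 1 := by
    rw [hζ, ← Units.val_pow_eq_pow_val, ← map_pow,
      show y' ^ e = 1 from Subtype.ext (pow_orderOf_eq_one C.y), map_one, Units.val_one]
  have hζ1 : ζ ≠ 1 := by
    intro h
    refine hl (MonoidHom.ext fun x => ?_)
    obtain ⟨i, hi⟩ := Subgroup.mem_zpowers_iff.1 x.2
    have hxi : x = y' ^ i := Subtype.ext (by simp [hy', hi])
    rw [hxi, map_zpow, show l y' = 1 from Units.ext h, one_zpow, MonoidHom.one_apply]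
  have hroot : ∀ c : ℂ, c ^ e = 1 → c ∈ V := by
    intro c hc
    refine (V.valuation_le_one_iff c).1 (le_of_eq ?_)
    have h1 : V.valuation c ^ e = 1 := by rw [← map_pow, hc, map_one]
    exact (pow_eq_one_iff.1 h1).resolve_right (by omega)
  have hyy : y' ≠ 1 := fun h => by
    have h1 : orderOf C.y = 1 := orderOf_eq_one_iff.2 (congrArg Subtype.val h)
    omega
  obtain ⟨a, ha, hat⟩ := htr C.y
  have hlmem := hroot _ hly
  have hlimem : ζ⁻¹ ∈ V := hroot _ (by rw [inv_pow, hly, inv_one])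
  have hasum : a = ⟨ζ, hlmem⟩ + ⟨ζ⁻¹, hlimem⟩ := Subtype.ext (ha.trans (hψl y' hyy))
  set μ := φ ⟨ζ, hlmem⟩ with hμ
  have hμi : φ ⟨ζ⁻¹, hlimem⟩ = μ⁻¹ := by
    refine eq_inv_of_mul_eq_one_left ?_
    rw [hμ, ← map_mul, ← map_one φ]
    congr 1
    refine Subtype.ext (inv_mul_cancel₀ fun h => ?_)
    rw [h, zero_pow (by omega)] at hly
    exact zero_ne_one hly
  have hμe : μ ^ e = 1 := by
    rw [hμ, ← map_pow, ← map_one φ]
    exact congrArg φ (Subtype.ext hly)
  have hμ1 : μ ≠ 1 := by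
    intro h
    refine L.e_ne_zero (k := k) ?_
    show (e : k) = 0
    have h0 : ∑ i ∈ Finset.range e, (⟨ζ, hlmem⟩ : V) ^ i = 0 := Subtype.ext (by
      push_cast
      rw [geom_sum_eq hζ1, hly, sub_self, zero_div])
    have h1 := congrArg φ h0
    rw [map_sum, map_zero] at h1
    rw [Finset.sum_congr rfl fun i _ =>
      (by rw [map_pow, ← hμ, h, one_pow] : φ ((⟨ζ, hlmem⟩ : V) ^ i) = 1)] at h1
    simpa using h1
  have hHk : (Fintype.card H : k) ≠ 0 := by
    rw [Ne, CharP.cast_eq_zero_iff k p, ← Nat.card_eq_fintype_card]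
    intro hd
    refine C.hsq ?_
    rw [← Subgroup.card_mul_index H, hH, pow_two]
    exact Nat.mul_dvd_mul_right hd p
  refine L.false_of_module (M := Fin (p + 1) → k) σ (by simp) H hHk ?_ μ hμe hμ1 ?_ (Matrix.toLinearMap₂' k B)
    (fun h => hB0 (Matrix.toLinearMap₂' k |>.map_eq_zero_iff.1 h)) (fun g v v' => ?_) fun W hW => ⟨?_, ?_⟩
  · have h1 := congrArg (Matrix.toLinAlgEquiv' : Matrix (Fin (p + 1)) (Fin (p + 1)) k ≃ₐ[k] _) (havg H havgψ)
    rw [map_sum, map_zero] at h1
    exact h1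
  · show LinearMap.trace k _ (Matrix.toLinAlgEquiv' (ρ C.y)) = _
    rw [show Matrix.toLinAlgEquiv' (ρ C.y) = Matrix.toLin' (ρ C.y) from rfl, Matrix.trace_toLin'_eq, hat, hasum,
      map_add, hμi]
  · show Matrix.toLinearMap₂' k B (Matrix.toLinAlgEquiv' (ρ g) v) (Matrix.toLinAlgEquiv' (ρ g) v') = _
    simp only [Matrix.toLinAlgEquiv'_apply, Matrix.toLinearMap₂'_apply']
    conv_rhs => rw [← hB g]
    rw [← Matrix.mulVec_mulVec, ← Matrix.mulVec_mulVec, Matrix.dotProduct_mulVec v (ρ g)ᵀ,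
      Matrix.vecMul_transpose]
  · intro _ τ _ hτ hb
    exact hno (C.psl_of_small hodd τ hτ hnab hb)
  · intro _ τ _ hτ hb
    exact hno (C.psl_of_small hodd τ hτ hnab hb)

end Cfsg.Lib.UniquePDegree
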