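import Cfsg.Agent.Lib.Perm.PrimeDegreeIndex
import Cfsg.Agent.Lib.Char.Linear
import Cfsg.Agent.Lib.Char.Orthogonality
import Cfsg.Agent.Lib.Block.Basic

/-!
# Basic structure of the groups of prime degree with one character of degree `p`
-/

set_option autoImplicit false
set_option linter.unusedSectionVars false
set_option linter.style.haveILetI false
set_option maxHeartbeats 1000000

namespace Cfsg.Lib.UniquePDegree

open Cfsg Cfsg.Lib.Char
open scoped Pointwise

universe u

/-- The data extracted from the hypotheses. -/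
structure Config (G : Type u) [Group G] (p : ℕ) where
  /-- The element of order `p`. -/
  u : G
  /-- The generator of the complement. -/
  y : G
  /-- The exponent of the action. -/
  s : ℕ
  /-- An element normalizing the complement outside it. -/
  w : G
  hu : orderOf u = p
  hp5 : 5 ≤ p
  he2 : 2 ≤ orderOf y
  hdvd : orderOf y ∣ p - 1
  hrel : y * u * y⁻¹ = u ^ s
  hsord : ∀ l, s ^ l ≡ 1 [MOD p] ↔ orderOf y ∣ l
  hsq : ¬ p ^ 2 ∣ Nat.card G
  hNP : ∀ g, g ∈ Subgroup.normalizer (Subgroup.zpowers u : Set G) → ∃ a b : ℕ, g = u ^ a * y ^ b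
  hwN : w ∈ Subgroup.normalizer (Subgroup.zpowers y : Set G)
  hwE : w ∉ Subgroup.zpowers y
  hN2 : ∀ g ∈ Subgroup.normalizer (Subgroup.zpowers y : Set G),
    g ∈ Subgroup.zpowers y ∨ g * w ∈ Subgroup.zpowers y
  hTI : ∀ g : G, ∀ x ∈ Subgroup.zpowers y, x ≠ 1 → g⁻¹ * x * g ∈ Subgroup.zpowers y →
    g ∈ Subgroup.normalizer (Subgroup.zpowers y : Set G)

variable {α : Type*} [Fintype α] [DecidableEq α] {p : ℕ} [hp : Fact p.Prime]

/-- An element of order `p` moves every point and generates a transitive group. -/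
theorem exists_pow_apply (hα : Fintype.card α = p) {a : Equiv.Perm α} (ha : orderOf a = p) (x z : α) :
    ∃ i : ℕ, (a ^ i) x = z := by
  classical
  have hp' : p.Prime := hp.out
  have hcyc : a.IsCycle :=
    Equiv.Perm.isCycle_of_prime_order' (ha.symm ▸ hp') (by rw [ha, hα]; have := hp'.pos; omega)
  have hsupp : a.support = Finset.univ :=
    Finset.eq_univ_of_card _ (by rw [← hcyc.orderOf, ha, hα])
  exact hcyc.exists_pow_eq (Equiv.Perm.mem_support.1 (hsupp ▸ Finset.mem_univ x))
    (Equiv.Perm.mem_support.1 (hsupp ▸ Finset.mem_univ z))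

/-- A permutation commuting with an element of order `p` is one of its powers. -/
theorem mem_zpowers_of_commute (hα : Fintype.card α = p) {G : Subgroup (Equiv.Perm α)} {u g : G}
    (hu : orderOf u = p) (h : g * u = u * g) : g ∈ Subgroup.zpowers u := by
  classical
  have hne : Nonempty α := Fintype.card_pos_iff.1 (hα ▸ hp.out.pos)
  obtain ⟨x⟩ := hne
  have hu' : orderOf (u : Equiv.Perm α) = p := by rwa [Subgroup.orderOf_coe]
  obtain ⟨i, hi⟩ := exists_pow_apply hα hu' x ((g : Equiv.Perm α) x)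
  refine Subgroup.mem_zpowers_iff.2 ⟨i, Subtype.ext (Equiv.ext fun z => ?_)⟩
  obtain ⟨j, rfl⟩ := exists_pow_apply hα hu' x z
  have hc : Commute (g : Equiv.Perm α) ((u : Equiv.Perm α) ^ j) :=
    Commute.pow_right (congrArg Subtype.val h) j
  rw [zpow_natCast, SubmonoidClass.coe_pow, ← Equiv.Perm.mul_apply, ← pow_add, add_comm, pow_add,
    Equiv.Perm.mul_apply, hi, ← Equiv.Perm.mul_apply, ← Equiv.Perm.mul_apply, hc.eq]

/-- A nontrivial normal subgroup contains the Sylow subgroup. -/
theorem sylow_le_normal (hα : Fintype.card α = p) (G : Subgroup (Equiv.Perm α))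
    [MulAction.IsPretransitive G α] (P : Sylow p G) (M : Subgroup G) [hM : M.Normal] (hMb : M ≠ ⊥) :
    (P : Subgroup G) ≤ M := by
  classical
  haveI hb : ∀ x : α, MulAction.IsBlock G (MulAction.orbit M x) := fun x =>
    MulAction.IsBlock.orbit_of_normal x
  have hne : Nonempty α := Fintype.card_pos_iff.1 (hα ▸ hp.out.pos)
  obtain ⟨x⟩ := hne
  have hdvd : Nat.card (MulAction.orbit M x) ∣ p := by
    have := (hb x).ncard_dvd_card (⟨x, MulAction.mem_orbit_self x⟩ : (MulAction.orbit M x).Nonempty)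
    rwa [Nat.card_eq_fintype_card, hα] at this
  have hpM : p ∣ Nat.card M := by
    rcases (Nat.dvd_prime hp.out).1 hdvd with h | h
    · refine absurd ?_ hMb
      rw [Subgroup.eq_bot_iff_forall]
      intro m hm
      refine Subtype.ext (Equiv.ext fun z => ?_)
      obtain ⟨g, rfl⟩ := MulAction.exists_smul_eq G x z
      have hsub : Subsingleton (MulAction.orbit M x) := (Nat.card_eq_one_iff_unique.1 h).1
      have h1 : ∀ m' : M, m' • x = x := fun m' => congrArg Subtype.val
        (Subsingleton.elim (⟨_, MulAction.mem_orbit x m'⟩ : MulAction.orbit M x)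
          ⟨x, MulAction.mem_orbit_self x⟩)
      have h2 : m • (g • x) = g • x := by
        have h3 : (g⁻¹ * m * g) • x = x := h1 ⟨_, by simpa using hM.conj_mem m hm g⁻¹⟩
        conv_rhs => rw [← h3]
        rw [← mul_smul, ← mul_smul]
        congr 1
        group
      exact h2
    · have h1 := MulAction.card_orbit_mul_card_stabilizer_eq_card_group M x
      rw [← Nat.card_eq_fintype_card, ← Nat.card_eq_fintype_card, ← Nat.card_eq_fintype_card, h] at h1
      exact ⟨_, h1.symm⟩
  obtain ⟨v, hv⟩ := exists_prime_orderOf_dvd_card' p hpM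
  -- a Sylow subgroup inside
  set Q : Subgroup G := Subgroup.zpowers (v : G) with hQ
  have hQc : Nat.card Q = p := by rw [hQ, Nat.card_zpowers, Subgroup.orderOf_coe, hv]
  obtain ⟨R, hR⟩ := (IsPGroup.of_card (n := 1) (by rw [hQc, pow_one]) : IsPGroup p Q).exists_le_sylow
  obtain ⟨n, hn⟩ := IsPGroup.iff_card.1 R.isPGroup'
  have hn1 : n ≤ 1 := by
    by_contra hcon
    exact Agent.PrimeDegree.card_sq_not_dvd hα G ((pow_dvd_pow p (show 2 ≤ n by omega)).trans
      (hn ▸ Subgroup.card_subgroup_dvd_card (R : Subgroup G)))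
  have hQR : Q = (R : Subgroup G) := Subgroup.eq_of_le_of_card_ge hR (by
    rw [hQc, hn]; exact (Nat.pow_le_pow_right hp.out.pos hn1).trans_eq (pow_one p))
  obtain ⟨g, hg⟩ := MulAction.exists_smul_eq G R P
  intro z hz
  rw [← hg, Sylow.coe_subgroup_smul, Subgroup.mem_pointwise_smul_iff_inv_smul_mem] at hz
  have h5 : MulAut.conj g⁻¹ z ∈ Q := hQR ▸ (by simpa [MulAut.smul_def] using hz)
  have h6 : MulAut.conj g⁻¹ z ∈ M := Subgroup.zpowers_le.2 v.2 h5
  have := hM.conj_mem _ h6 g
  simpa [mul_assoc] using this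

/-- The group is simple and the data exists. -/
theorem exists_config (hα : Fintype.card α = p) (G : Subgroup (Equiv.Perm α))
    [MulAction.IsPretransitive G α]
    (huniq : ∃! χ : IrrCharacter G, charDegree (χ : G → ℂ) = p) (P : Sylow p G) (E : Subgroup G)
    (hPE : (P : Subgroup G) ⊔ E = Subgroup.normalizer ((P : Subgroup G) : Set G))
    (hPE' : (P : Subgroup G) ⊓ E = ⊥)
    (hNE : Nat.card (Subgroup.normalizer (E : Set G)) = 2 * Nat.card E)
    (hTI : ∀ g : G, g ∉ Subgroup.normalizer (E : Set G) → E ⊓ E.map (MulAut.conj g).toMonoidHom = ⊥) :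
    Nonempty (Config G p) ∧ IsSimpleGroup G ∧ ¬ IsMulCommutative G ∧
      ∃! χ : IrrCharacter G, (χ : G → ℂ) 1 = (p : ℂ) := by
  classical
  have hp' : p.Prime := hp.out
  obtain ⟨χp, hχp, hun⟩ := huniq
  have hχ1 : (χp : G → ℂ) 1 = (p : ℂ) := by rw [Block.apply_one_eq_charDegree, hχp]
  have hun' : ∀ χ : IrrCharacter G, (χ : G → ℂ) 1 = (p : ℂ) → χ = χp := fun χ h => hun χ (by
    rw [Block.apply_one_eq_charDegree] at h; exact_mod_cast h)
  have hsum := sum_sq_degree (G := G)
  have hp2le : p ^ 2 ≤ Nat.card G := by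
    have h1 : ∀ χ : IrrCharacter G, (χ : G → ℂ) 1 ^ 2 = ((charDegree (χ : G → ℂ) ^ 2 : ℕ) : ℂ) := fun χ => by
      rw [Block.apply_one_eq_charDegree]; push_cast; rfl
    rw [Finset.sum_congr rfl fun χ _ => h1 χ] at hsum
    have h2 : ∑ χ : IrrCharacter G, charDegree (χ : G → ℂ) ^ 2 = Nat.card G := by exact_mod_cast hsum
    rw [← h2, ← hχp]
    exact Finset.single_le_sum (f := fun χ : IrrCharacter G => charDegree (χ : G → ℂ) ^ 2)
      (fun _ _ => Nat.zero_le _) (Finset.mem_univ χp)
  -- the Sylow subgroup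
  have hpG : p ∣ Nat.card G := by
    have hne : Nonempty α := Fintype.card_pos_iff.1 (hα ▸ hp'.pos)
    obtain ⟨x⟩ := hne
    rw [← hα, ← Nat.card_eq_fintype_card (α := α), ← MulAction.index_stabilizer_of_transitive G x]
    exact Subgroup.index_dvd_card _
  have hsq := Agent.PrimeDegree.card_sq_not_dvd hα G
  have hPc : Nat.card (P : Subgroup G) = p := by
    obtain ⟨n, hn⟩ := IsPGroup.iff_card.1 P.isPGroup'
    have h1 := P.dvd_card_of_dvd_card hpG
    rcases Nat.lt_or_ge n 2 with h | h
    · rcases (by omega : n = 0 ∨ n = 1) with h' | h' <;> subst h'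
      · rw [hn, pow_zero, Nat.dvd_one] at h1; exact absurd h1 hp'.ne_one
      · rw [hn, pow_one]
    · exact absurd ((pow_dvd_pow p h).trans (hn ▸ Subgroup.card_subgroup_dvd_card (P : Subgroup G))) hsq
  obtain ⟨⟨u, huP⟩, hu0⟩ := exists_prime_orderOf_dvd_card' (G := (P : Subgroup G)) p
    (by rw [hPc])
  have hu : orderOf u = p := by rwa [← Subgroup.orderOf_coe] at hu0
  have hPu : (P : Subgroup G) = Subgroup.zpowers u :=
    (Subgroup.eq_of_le_of_card_ge (Subgroup.zpowers_le.2 huP) (by rw [Nat.card_zpowers, hu, hPc])).symm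
  have hEN : E ≤ Subgroup.normalizer ((P : Subgroup G) : Set G) := hPE ▸ le_sup_right
  -- the action of the complement
  have hcyc : IsCyclic (Subgroup.zpowers u) := inferInstance
  let f0 : E →* MulAut (P : Subgroup G) :=
    (P : Subgroup G).normalizerMonoidHom.comp (Subgroup.inclusion hEN)
  have hfinj : Function.Injective f0 := by
    rw [← MonoidHom.ker_eq_bot_iff, Subgroup.eq_bot_iff_forall]
    intro x hx
    have h1 := congrArg Subtype.val (MulEquiv.congr_fun (MonoidHom.mem_ker.1 hx) ⟨u, huP⟩)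
    have h2 : (x : G) * u * (x : G)⁻¹ = u := h1
    have h3 : (x : G) ∈ (P : Subgroup G) :=
      hPu ▸ mem_zpowers_of_commute hα hu (mul_inv_eq_iff_eq_mul.1 h2)
    have h4 : (x : G) ∈ (P : Subgroup G) ⊓ E := ⟨h3, x.2⟩
    rw [hPE', Subgroup.mem_bot] at h4
    exact Subtype.ext h4
  haveI : Fact (Nat.card (P : Subgroup G)).Prime := ⟨hPc.symm ▸ hp'⟩
  haveI : IsCyclic (P : Subgroup G) := isCyclic_of_prime_card hPc
  haveI : IsCyclic (MulAut (P : Subgroup G)) := by
    haveI : IsCyclic (ZMod (Nat.card (P : Subgroup G)))ˣ := inferInstance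
    exact isCyclic_of_surjective (IsCyclic.mulAutMulEquiv (P : Subgroup G)).symm.toMonoidHom
      (IsCyclic.mulAutMulEquiv (P : Subgroup G)).symm.surjective
  haveI : IsCyclic E := isCyclic_of_injective f0 hfinj
  obtain ⟨⟨y, hyE⟩, hyg⟩ := IsCyclic.exists_generator (α := E)
  have hEy : E = Subgroup.zpowers y := by
    refine le_antisymm (fun x hx => ?_) (Subgroup.zpowers_le.2 hyE)
    obtain ⟨i, hi⟩ := Subgroup.mem_zpowers_iff.1 (hyg ⟨x, hx⟩)
    exact Subgroup.mem_zpowers_iff.2 ⟨i, congrArg Subtype.val hi⟩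
  subst hEy
  have hymem : y * u * y⁻¹ ∈ Subgroup.zpowers u :=
    hPu ▸ (Subgroup.mem_normalizer_iff.1 (hEN hyE) u).1 huP
  obtain ⟨s, hs : u ^ s = y * u * y⁻¹⟩ := mem_powers_iff_mem_zpowers.2 hymem
  have hpow : ∀ l : ℕ, y ^ l * u * (y ^ l)⁻¹ = u ^ (s ^ l) := by
    intro l
    induction l with
    | zero => simp
    | succ n ih =>
      rw [pow_succ' y, mul_inv_rev, show y * y ^ n * u * ((y ^ n)⁻¹ * y⁻¹) = y * (y ^ n * u * (y ^ n)⁻¹) * y⁻¹ by group,
        ih, ← conj_pow, ← hs, ← pow_mul, pow_succ' s]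
  have hsord : ∀ l, s ^ l ≡ 1 [MOD p] ↔ orderOf y ∣ l := by
    intro l
    rw [orderOf_dvd_iff_pow_eq_one]
    constructor
    · intro h
      have h1 : u ^ (s ^ l) = u := by
        conv_rhs => rw [← pow_one u]
        exact pow_eq_pow_iff_modEq.2 (hu.symm ▸ h)
      rw [← hpow l, mul_inv_eq_iff_eq_mul] at h1
      have h3 : y ^ l ∈ (P : Subgroup G) ⊓ Subgroup.zpowers y :=
        ⟨hPu ▸ mem_zpowers_of_commute hα hu h1, Subgroup.pow_mem _ (Subgroup.mem_zpowers y) l⟩
      rwa [hPE', Subgroup.mem_bot] at h3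
    · intro h
      have h1 := hpow l
      rw [h, one_mul, inv_one, mul_one] at h1
      conv_lhs at h1 => rw [← pow_one u]
      have := pow_eq_pow_iff_modEq.1 h1
      rw [hu] at this
      exact this.symm
  have hdvd : orderOf y ∣ p - 1 := by
    rw [← hsord]
    have hcop : Nat.Coprime s p := by
      rw [Nat.coprime_comm, hp'.coprime_iff_not_dvd]
      intro hps
      have hu1 : u ^ s = 1 := orderOf_dvd_iff_pow_eq_one.1 (hu.symm ▸ hps)
      rw [hs, conj_eq_one_iff] at hu1
      rw [hu1, orderOf_one] at hu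
      exact hp'.ne_one hu.symm
    exact Nat.totient_prime hp' ▸ Nat.ModEq.pow_totient hcop
  -- the normalizer of `P`
  have hNP : ∀ g, g ∈ Subgroup.normalizer (Subgroup.zpowers u : Set G) → ∃ a b : ℕ, g = u ^ a * y ^ b := by
    intro g hg
    rw [← hPu, ← hPE] at hg
    have h1 : g ∈ ((P : Subgroup G) : Set G) * (Subgroup.zpowers y : Set G) := by
      rw [← Subgroup.coe_mul_of_right_le_normalizer_left (P : Subgroup G) (Subgroup.zpowers y) hEN]
      exact hg
    obtain ⟨x, hx, z, hz, rfl⟩ := Set.mem_mul.1 h1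
    rw [SetLike.mem_coe, hPu, ← mem_powers_iff_mem_zpowers] at hx
    rw [SetLike.mem_coe, ← mem_powers_iff_mem_zpowers] at hz
    obtain ⟨a, rfl⟩ := hx
    obtain ⟨b, rfl⟩ := hz
    exact ⟨a, b, rfl⟩
  -- `P` is not normal
  have hnn : ¬ (P : Subgroup G).Normal := by
    intro hn
    have htop : Subgroup.normalizer ((P : Subgroup G) : Set G) = ⊤ := Subgroup.normalizer_eq_top_iff.2 hn
    have hlt : orderOf y < p := by
      have h2 := hp'.two_le
      exact lt_of_le_of_lt (Nat.le_of_dvd (by omega) hdvd) (by omega)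
    have h1 : Nat.card G ≤ p * orderOf y := by
      have hsurj : Function.Surjective fun x : (Subgroup.zpowers u) × (Subgroup.zpowers y) => (x.1 : G) * (x.2 : G) := by
        intro g
        obtain ⟨a, b, rfl⟩ := hNP g (by rw [← hPu, htop]; trivial)
        exact ⟨(⟨_, Subgroup.pow_mem _ (Subgroup.mem_zpowers u) a⟩, ⟨_, Subgroup.pow_mem _ (Subgroup.mem_zpowers y) b⟩), rfl⟩
      refine (Nat.card_le_card_of_surjective _ hsurj).trans_eq ?_
      rw [Nat.card_prod, Nat.card_zpowers, Nat.card_zpowers, hu]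
    nlinarith
  have hp5 : 5 ≤ p := by
    by_contra hlt
    have hle : Nat.card G ≤ p.factorial := by
      refine (Subgroup.card_le_card_group G).trans_eq ?_
      rw [Nat.card_eq_fintype_card, Fintype.card_perm, hα]
    have h2 := hp'.two_le
    have h4 : p ≠ 4 := fun h => by rw [h] at hp'; norm_num at hp'
    rcases (by omega : p = 2 ∨ p = 3) with h | h
    · subst h; simp only [Nat.factorial] at hle; omega
    · subst h; simp only [Nat.factorial] at hle; omega
  -- perfect
  have hperf : commutator G = ⊤ := by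
    by_contra hne
    have h1 : Nat.card (G →* ℂˣ) ≠ 1 := by
      rw [card_linear_eq_index]
      exact fun h => hne (Subgroup.index_eq_one.1 h)
    obtain ⟨lam, hlam⟩ : ∃ lam : G →* ℂˣ, lam ≠ 1 := by
      by_contra h
      push Not at h
      exact h1 (Nat.card_eq_one_iff_unique.2 ⟨⟨fun a b => (h a).trans (h b).symm⟩, ⟨1⟩⟩)
    have hmul := isIrrCharacter_mul_linear χp.2 lam
    have heq : (χp : G → ℂ) * (fun g => (lam g : ℂ)) = (χp : G → ℂ) :=
      congrArg Subtype.val (hun' ⟨_, hmul⟩ (by simp [hχ1]))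
    obtain ⟨n, ρ, hirr, hchar⟩ := χp.2
    have hn : n = p := by
      have : (χp : G → ℂ) 1 = (n : ℂ) := by rw [← hchar, Representation.char_one]; simp
      exact_mod_cast this.symm.trans hχ1
    subst hn
    let σ : Representation ℂ G (Fin n → ℂ) :=
      { toFun := fun g => (lam g : ℂ) • ρ g
        map_one' := by simp
        map_mul' := fun a b => by
          simp [smul_smul, mul_comm] }
    obtain ⟨ee⟩ := nonempty_equiv_of_character_eq ρ σ (by
      rw [hchar]
      funext g
      show _ = LinearMap.trace ℂ _ ((lam g : ℂ) • ρ g)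
      rw [map_smul, smul_eq_mul, show LinearMap.trace ℂ _ (ρ g) = (χp : G → ℂ) g from congrFun hchar g]
      conv_lhs => rw [← heq]
      simp [mul_comm])
    have hpow1 : ∀ g, lam g ^ n = 1 := by
      intro g
      have h2 : σ g = (ee.toLinearEquiv : (Fin n → ℂ) →ₗ[ℂ] (Fin n → ℂ)) ∘ₗ (ρ g) ∘ₗ
          (ee.toLinearEquiv.symm : (Fin n → ℂ) →ₗ[ℂ] (Fin n → ℂ)) := by
        refine LinearMap.ext fun v => ?_
        have := LinearMap.congr_fun (ee.toIntertwiningMap.isIntertwining' g) (ee.toLinearEquiv.symm v)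
        simp only [LinearMap.comp_apply, LinearEquiv.coe_coe] at this ⊢
        rw [← this.symm]
        show σ g v = σ g (ee.toLinearEquiv (ee.toLinearEquiv.symm v))
        rw [LinearEquiv.apply_symm_apply]
      have h3 := congrArg LinearMap.det h2
      rw [LinearMap.det_conj] at h3
      change LinearMap.det ((lam g : ℂ) • ρ g) = _ at h3
      rw [LinearMap.det_smul, Module.finrank_fin_fun] at h3
      have hu' : IsUnit (LinearMap.det (ρ g)) :=
        ((Group.isUnit g).map ρ).map LinearMap.det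
      exact Units.ext (by
        rw [Units.val_pow_eq_pow_val, Units.val_one]
        exact mul_right_cancel₀ hu'.ne_zero (h3.trans (one_mul _).symm))
    -- but the quotient by the kernel has order prime to `p`
    haveI : (lam.ker).Normal := MonoidHom.normal_ker lam
    have hKb : lam.ker ≠ ⊥ := by
      intro hb
      refine hnn ⟨fun x hx g => ?_⟩
      have hinj : Function.Injective lam := (MonoidHom.ker_eq_bot_iff lam).1 hb
      have : g * x * g⁻¹ = x := hinj (by simp [mul_comm])
      rwa [this]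
    have hPK := sylow_le_normal hα G P lam.ker hKb
    refine hlam (MonoidHom.ext fun g => ?_)
    -- Frattini
    have hg : g ∈ Subgroup.normalizer ((P : Subgroup G) : Set G) ⊔ lam.ker := by
      have := Sylow.normalizer_sup_eq_top (P.subtype hPK)
      rw [Sylow.coe_subtype, Subgroup.map_subgroupOf_eq_of_le hPK] at this
      rw [this]; trivial
    rw [← SetLike.mem_coe, Subgroup.mul_normal] at hg
    obtain ⟨x, hx, z, hz, rfl⟩ := Set.mem_mul.1 hg
    obtain ⟨a, b, rfl⟩ := hNP x (hPu ▸ hx)
    have hua : lam u = 1 := hPK huP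
    have hyb : lam y = 1 := by
      have h2 : lam y ^ orderOf y = 1 := by rw [← map_pow, pow_orderOf_eq_one, map_one]
      have hcop : Nat.Coprime n (orderOf y) := by
        refine (hp'.coprime_iff_not_dvd).2 fun hd => ?_
        have h7 := Nat.le_of_dvd (orderOf_pos y) hd
        have h8 := Nat.le_of_dvd (by omega) hdvd
        omega
      have h9 : lam y ^ Nat.gcd n (orderOf y) = 1 := pow_gcd_eq_one.2 ⟨hpow1 y, h2⟩
      rwa [hcop.gcd_eq_one, pow_one] at h9
    rw [map_mul, map_mul, map_pow, map_pow, hua, hyb, MonoidHom.mem_ker.1 hz]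
    simp
  have hGnt : Nontrivial G := Finite.one_lt_card_iff_nontrivial.1 (by nlinarith)
  have hsimple : IsSimpleGroup G := by
    refine ⟨fun M hM => or_iff_not_imp_left.2 fun hMb => ?_⟩
    have hPM := sylow_le_normal hα G P M hMb
    have hfr : Subgroup.normalizer ((P : Subgroup G) : Set G) ⊔ M = ⊤ := by
      have := Sylow.normalizer_sup_eq_top (P.subtype hPM)
      rwa [Sylow.coe_subtype, Subgroup.map_subgroupOf_eq_of_le hPM] at this
    have hle : commutator G ≤ M := by
      haveI : IsMulCommutative (G ⧸ M) := by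
        have hgen : ∀ q : G ⧸ M, q ∈ Subgroup.zpowers (QuotientGroup.mk' M y) := by
          intro q
          obtain ⟨g, rfl⟩ := QuotientGroup.mk'_surjective M q
          have hg : g ∈ Subgroup.normalizer ((P : Subgroup G) : Set G) ⊔ M := hfr ▸ Subgroup.mem_top g
          rw [← SetLike.mem_coe, Subgroup.mul_normal] at hg
          obtain ⟨x, hx, z, hz, rfl⟩ := Set.mem_mul.1 hg
          obtain ⟨a, b, rfl⟩ := hNP x (hPu ▸ hx)
          have h7 : QuotientGroup.mk' M u = 1 := (QuotientGroup.eq_one_iff u).2 (hPM huP)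
          have h8 : QuotientGroup.mk' M z = 1 := (QuotientGroup.eq_one_iff z).2 hz
          rw [map_mul, map_mul, map_pow, map_pow, h7, h8, one_pow, one_mul, mul_one]
          exact Subgroup.pow_mem _ (Subgroup.mem_zpowers _) b
        refine ⟨⟨fun a b => ?_⟩⟩
        obtain ⟨i, rfl⟩ := Subgroup.mem_zpowers_iff.1 (hgen a)
        obtain ⟨j, rfl⟩ := Subgroup.mem_zpowers_iff.1 (hgen b)
        exact (Commute.zpow_zpow (Commute.refl _) i j).eq
      exact (Subgroup.Normal.quotient_commutative_iff_commutator_le).1 inferInstance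
    rw [hperf] at hle
    exact top_le_iff.1 hle
  have hnab : ¬ IsMulCommutative G := by
    intro hc
    exact hnn (Subgroup.normal_of_isMulCommutative _)
  -- the complement
  have he2 : 2 ≤ orderOf y := by
    by_contra hlt
    have hy1 : y = 1 := orderOf_eq_one_iff.1 (by have := orderOf_pos y; omega)
    subst hy1
    rw [Subgroup.zpowers_one_eq_bot, Subgroup.normalizer_eq_top_iff.2 inferInstance, Subgroup.card_top,
      Subgroup.card_bot] at hNE
    nlinarith
  obtain ⟨w, hwN, hwE⟩ : ∃ w ∈ Subgroup.normalizer (Subgroup.zpowers y : Set G), w ∉ Subgroup.zpowers y := by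
    by_contra h
    push Not at h
    have h1 := Subgroup.card_le_of_le h
    rw [hNE] at h1
    have := Nat.card_pos (α := Subgroup.zpowers y)
    omega
  refine ⟨⟨⟨u, y, s, w, hu, hp5, he2, hdvd, hs.symm, hsord, hsq, hNP, hwN, hwE, fun g hg => ?_,
    fun g x hx hx1 hgx => ?_⟩⟩, hsimple, hnab, ⟨χp, hχ1, hun'⟩⟩
  · -- index two
    set N := Subgroup.normalizer (Subgroup.zpowers y : Set G)
    have hidx : ((Subgroup.zpowers y).subgroupOf N).index = 2 := by
      have h1 := Subgroup.card_mul_index ((Subgroup.zpowers y).subgroupOf N)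
      rw [Nat.card_congr (Subgroup.subgroupOfEquivOfLe Subgroup.le_normalizer).toEquiv, hNE,
        mul_comm 2] at h1
      exact Nat.eq_of_mul_eq_mul_left Nat.card_pos h1
    by_contra hcon
    push Not at hcon
    have h2 := Subgroup.mul_mem_iff_of_index_two hidx (a := ⟨g, hg⟩) (b := ⟨w, hwN⟩)
    simp only [Subgroup.mem_subgroupOf, Subgroup.coe_mul] at h2
    tauto
  · by_contra hg
    have h1 : x ∈ Subgroup.zpowers y ⊓ (Subgroup.zpowers y).map (MulAut.conj g).toMonoidHom :=
      ⟨hx, ⟨g⁻¹ * x * g, hgx, by simp [mul_assoc]⟩⟩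
    rw [hTI g hg, Subgroup.mem_bot] at h1
    exact hx1 h1

end Cfsg.Lib.UniquePDegree
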